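import Mathlib
import Cfsg.Prelude.Def_Blocks
import Cfsg.Agent.Lib.Helper5.Clifford
import Cfsg.Agent.Lib.Helper79.GaloisChar

set_option autoImplicit false

namespace Cfsg.Agent.Lib.Helper79

open scoped ComplexConjugate
open Cfsg.Agent.Lib.Helper5

/-- The number of `G`-conjugates of a class function of a normal subgroup divides the index. -/
theorem ncard_conj_orbit_dvd_index {G : Type*} [Group G] {N : Subgroup G} (hN : N.Normal)
    {θ : N → ℂ} (hθ : Cfsg.IsClassFunction N θ) :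
    Set.ncard {ψ : N → ℂ | ∃ g : G, ψ = cjF hN θ g} ∣ N.index := by
  let act : MulAction G (N → ℂ) :=
    { smul := fun g ψ => cjF hN ψ g⁻¹
      one_smul := fun ψ => by
        show cjF hN ψ (1 : G)⁻¹ = ψ
        rw [inv_one, cjF_one]
      mul_smul := fun g h ψ => by
        show cjF hN ψ (g * h)⁻¹ = cjF hN (cjF hN ψ h⁻¹) g⁻¹
        rw [cjF_cjF, mul_inv_rev] }
  have h1 : MulAction.orbit G θ = {ψ : N → ℂ | ∃ g : G, ψ = cjF hN θ g} := by
    ext ψ
    constructor
    · rintro ⟨g, rfl⟩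
      exact ⟨g⁻¹, rfl⟩
    · rintro ⟨g, rfl⟩
      refine ⟨g⁻¹, ?_⟩
      show cjF hN θ (g⁻¹)⁻¹ = _
      rw [inv_inv]
  rw [← h1, ← MulAction.index_stabilizer]
  apply Subgroup.index_dvd_of_le
  intro n hn
  rw [MulAction.mem_stabilizer_iff]
  show cjF hN θ n⁻¹ = θ
  funext x
  rw [cjF_apply]
  have := hθ x ⟨n⁻¹, N.inv_mem hn⟩
  rw [← this]
  congr 1

/-- Twisting by a power map commutes with conjugation. -/
theorem cjF_pow {G : Type*} [Group G] {N : Subgroup G} (hN : N.Normal) (θ : N → ℂ) (g : G) (k : ℕ) :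
    (fun n : N => cjF hN θ g (n ^ k)) = cjF hN (fun n : N => θ (n ^ k)) g := by
  funext n
  rw [cjF_apply, cjF_apply]
  congr 1
  apply Subtype.ext
  simp only [Subgroup.coe_pow]
  rw [conj_pow]

theorem classInner_pow_coprime {N : Type*} [Group N] [Fintype N] (k : ℕ)
    (hk : k.Coprime (Nat.card N)) (φ ψ : N → ℂ) :
    Cfsg.classInner (fun n => φ (n ^ k)) (fun n => ψ (n ^ k)) = Cfsg.classInner φ ψ := by
  unfold Cfsg.classInner
  congr 1
  exact Equiv.sum_comp (powCoprime hk.symm) (fun n => φ n * conj (ψ n))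

end Cfsg.Agent.Lib.Helper79
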