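import Mathlib
import Cfsg.Prelude.Def_Characters
import Cfsg.Agent.Lib.Helper79.Eigen

set_option autoImplicit false

namespace Cfsg.Agent.Lib.Helper79

open Module

theorem exists_rat_of_fixed_aux (n : ℕ) [NeZero n] (L : Type) [Field L] [Algebra ℚ L]
    [IsCyclotomicExtension {n} ℚ L] (s : Finset ℂ) (m : ℂ → ℤ)
    (hs : ∀ μ ∈ s, μ ^ n = 1)
    (hfix : ∀ u : (ZMod n)ˣ, ∑ μ ∈ s, (m μ : ℂ) * μ ^ (u : ZMod n).val = ∑ μ ∈ s, (m μ : ℂ) * μ) :
    ∃ q : ℚ, ∑ μ ∈ s, (m μ : ℂ) * μ = (q : ℂ) := by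
  classical
  have hn : 0 < n := NeZero.pos n
  have : FiniteDimensional ℚ L := IsCyclotomicExtension.finiteDimensional {n} ℚ L
  have : Algebra.IsAlgebraic ℚ L := Algebra.IsAlgebraic.of_finite ℚ L
  have : IsGalois ℚ L := IsCyclotomicExtension.isGalois {n} ℚ L
  let ι : L →ₐ[ℚ] ℂ := IsAlgClosed.lift
  have hirr := Polynomial.cyclotomic.irreducible_rat hn
  set η : L := IsCyclotomicExtension.zeta n ℚ L with hη
  have hηp : IsPrimitiveRoot η n := IsCyclotomicExtension.zeta_spec n ℚ L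
  have hηC : IsPrimitiveRoot (ι η) n := hηp.map_of_injective ι.toRingHom.injective
  have hex : ∀ μ : ℂ, ∃ a : ℕ, μ ∈ s → (ι η) ^ a = μ := by
    intro μ
    by_cases hμ : μ ∈ s
    · obtain ⟨a, _, ha⟩ := hηC.eq_pow_of_pow_eq_one (hs μ hμ)
      exact ⟨a, fun _ => ha⟩
    · exact ⟨0, fun h => absurd h hμ⟩
  choose a ha using hex
  let α : L := ∑ μ ∈ s, (m μ : L) * η ^ (a μ)
  have hσ : ∀ σ : L ≃ₐ[ℚ] L, ι (σ α) =
      ∑ μ ∈ s, (m μ : ℂ) * μ ^ ((IsCyclotomicExtension.autEquivPow L hirr σ : (ZMod n)ˣ) : ZMod n).val := by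
    intro σ
    have h1 : σ η = η ^ ((IsCyclotomicExtension.autEquivPow L hirr σ : (ZMod n)ˣ) : ZMod n).val :=
      (hηp.autToPow_spec ℚ σ).symm
    simp only [α, map_sum, map_mul, map_intCast, map_pow]
    apply Finset.sum_congr rfl
    intro μ hμ
    rw [h1, map_pow, ← pow_mul, Nat.mul_comm, pow_mul, ha μ hμ]
  have hια : ι α = ∑ μ ∈ s, (m μ : ℂ) * μ := by
    simp only [α, map_sum, map_mul, map_intCast, map_pow]
    apply Finset.sum_congr rfl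
    intro μ hμ
    rw [ha μ hμ]
  have hfixed : ∀ σ : L ≃ₐ[ℚ] L, σ α = α := by
    intro σ
    apply ι.toRingHom.injective
    show ι (σ α) = ι α
    rw [hσ, hfix, hια]
  obtain ⟨q, hq⟩ := (IsGalois.mem_range_algebraMap_iff_fixed α).mpr hfixed
  refine ⟨q, ?_⟩
  rw [← hια, ← hq]
  simp

/-- A cyclotomic integer fixed by all Galois conjugations is rational. -/
theorem exists_rat_of_fixed (n : ℕ) [NeZero n] (s : Finset ℂ) (m : ℂ → ℤ)
    (hs : ∀ μ ∈ s, μ ^ n = 1)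
    (hfix : ∀ u : (ZMod n)ˣ, ∑ μ ∈ s, (m μ : ℂ) * μ ^ (u : ZMod n).val = ∑ μ ∈ s, (m μ : ℂ) * μ) :
    ∃ q : ℚ, ∑ μ ∈ s, (m μ : ℂ) * μ = (q : ℂ) :=
  @exists_rat_of_fixed_aux n _ (CyclotomicField n ℚ) _ (CyclotomicField.algebra n ℚ)
    inferInstance s m hs hfix

/-- If `χ (g ^ k) = χ g` for all `k` coprime to `n` (where `g ^ n = 1`) then `χ g` is rational. -/
theorem IsCharacter.exists_rat_of_pow_eq {G : Type*} [Group G] {χ : G → ℂ}
    (hχ : Cfsg.IsCharacter G χ) (n : ℕ) [NeZero n] (g : G) (hg : g ^ n = 1)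
    (h : ∀ k : ℕ, k.Coprime n → χ (g ^ k) = χ g) : ∃ q : ℚ, χ g = (q : ℂ) := by
  obtain ⟨s, m, h1, _, h3⟩ := IsCharacter.exists_weights χ hχ g n (NeZero.pos n) hg
  have e1 := h3 1
  simp only [pow_one] at e1
  have := exists_rat_of_fixed n s (fun μ => (m μ : ℤ)) h1 (by
    intro u
    simp only [Int.cast_natCast]
    rw [← h3, ← e1]
    exact h _ (ZMod.val_coe_unit_coprime u))
  simp only [Int.cast_natCast] at this
  rwa [← e1] at this

end Cfsg.Agent.Lib.Helper79
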