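import Mathlib
import Cfsg.Prelude.Def_Blocks
import Cfsg.Agent.Lib.Helper20.CharColumn

set_option autoImplicit false

namespace Cfsg.Agent.Lib.Helper79

open scoped ComplexConjugate

/-- Counting conjugacy classes with a property by summing centralizer orders. -/
theorem sum_card_centralizer_eq {G : Type*} [Group G] [Fintype G] (Q : ConjClasses G → Prop)
    [DecidablePred Q] :
    ∑ g : G, (if Q (ConjClasses.mk g) then (Nat.card (Subgroup.centralizer ({g} : Set G)) : ℂ) else 0)
      = (Nat.card G : ℂ) * (Nat.card {C : ConjClasses G // Q C} : ℂ) := by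
  classical
  have hG : (Nat.card G : ℂ) ≠ 0 := by exact_mod_cast Nat.card_pos.ne'
  rw [← Finset.sum_fiberwise Finset.univ (fun g : G => ConjClasses.mk g)]
  have hfib : ∀ C : ConjClasses G,
      ∑ g ∈ Finset.univ.filter (fun g : G => ConjClasses.mk g = C),
        (if Q (ConjClasses.mk g) then (Nat.card (Subgroup.centralizer ({g} : Set G)) : ℂ) else 0)
        = if Q C then (Nat.card G : ℂ) else 0 := by
    intro C
    induction C using ConjClasses.mk_surjective.forall.mpr with
    | _ h =>
    have hterm : ∀ g ∈ Finset.univ.filter (fun g : G => ConjClasses.mk g = ConjClasses.mk h),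
        (if Q (ConjClasses.mk g) then (Nat.card (Subgroup.centralizer ({g} : Set G)) : ℂ) else 0)
        = if Q (ConjClasses.mk h) then (Nat.card (Subgroup.centralizer ({h} : Set G)) : ℂ) else 0 := by
      intro g hg
      have hgh : ConjClasses.mk g = ConjClasses.mk h := (Finset.mem_filter.mp hg).2
      rw [hgh]
      have hc : IsConj g h := ConjClasses.mk_eq_mk_iff_isConj.mp hgh
      have h1 : (Subgroup.centralizer ({g} : Set G)).index = (Subgroup.centralizer ({h} : Set G)).index := by
        rw [← Cfsg.Agent.Lib.Helper20.card_isConj_eq_index, ← Cfsg.Agent.Lib.Helper20.card_isConj_eq_index]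
        apply Nat.card_congr
        apply Equiv.subtypeEquivRight
        intro x
        exact ⟨fun hx => hc.symm.trans hx, fun hx => hc.trans hx⟩
      have h2 := (Subgroup.centralizer ({g} : Set G)).card_mul_index
      have h3 := (Subgroup.centralizer ({h} : Set G)).card_mul_index
      have h4 : Nat.card (Subgroup.centralizer ({g} : Set G)) = Nat.card (Subgroup.centralizer ({h} : Set G)) := by
        rw [h1, ← h3] at h2
        have hpos : 0 < (Subgroup.centralizer ({h} : Set G)).index :=
          Nat.pos_of_ne_zero (Subgroup.index_ne_zero_of_finite)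
        exact Nat.eq_of_mul_eq_mul_right hpos h2
      rw [h4]
    rw [Finset.sum_congr rfl hterm, Finset.sum_const]
    have hcard : (Finset.univ.filter (fun g : G => ConjClasses.mk g = ConjClasses.mk h)).card =
        (Subgroup.centralizer ({h} : Set G)).index := by
      rw [← Cfsg.Agent.Lib.Helper20.card_isConj_eq_index, Nat.card_eq_fintype_card,
        Fintype.card_subtype]
      congr 1
      ext x
      simp only [Finset.mem_filter, Finset.mem_univ, true_and]
      rw [ConjClasses.mk_eq_mk_iff_isConj, isConj_comm]
    rw [hcard]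
    split_ifs
    · rw [nsmul_eq_mul, ← Nat.cast_mul, mul_comm, Subgroup.card_mul_index]
    · simp
  simp_rw [hfib]
  rw [← Finset.sum_filter, Finset.sum_const, nsmul_eq_mul, Nat.card_eq_fintype_card (α := {C // Q C}),
    Fintype.card_subtype, mul_comm]

/-- General form of Brauer's permutation lemma: if precomposition with `a : G → G` maps irreducible
characters to irreducible characters, then the number of fixed irreducible characters is the number
of conjugacy classes `C` such that `a g` is conjugate to `g` for `g ∈ C`. -/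
theorem card_fixed_irr_eq {G : Type*} [Group G] [Finite G] (a : G → G)
    (ha : ∀ χ : G → ℂ, Cfsg.IsIrrCharacter G χ → Cfsg.IsIrrCharacter G (fun g => χ (a g)))
    (Q : ConjClasses G → Prop) (hQ : ∀ g : G, Q (ConjClasses.mk g) ↔ IsConj (a g) g) :
    Nat.card {χ : Cfsg.IrrCharacter G // ∀ g, (χ : G → ℂ) (a g) = (χ : G → ℂ) g} =
      Nat.card {C : ConjClasses G // Q C} := by
  classical
  have := Fintype.ofFinite G
  have := Cfsg.Agent.Lib.Helper20.finite_irrCharacter (G := G)
  have := Fintype.ofFinite (Cfsg.IrrCharacter G)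
  have hG : (Nat.card G : ℂ) ≠ 0 := by exact_mod_cast Nat.card_pos.ne'
  have h1 : ∑ χ : Cfsg.IrrCharacter G, Cfsg.classInner (fun g => (χ : G → ℂ) (a g)) (χ : G → ℂ) =
      (Nat.card {χ : Cfsg.IrrCharacter G // ∀ g, (χ : G → ℂ) (a g) = (χ : G → ℂ) g} : ℂ) := by
    have : ∀ χ : Cfsg.IrrCharacter G, Cfsg.classInner (fun g => (χ : G → ℂ) (a g)) (χ : G → ℂ) =
        if (∀ g, (χ : G → ℂ) (a g) = (χ : G → ℂ) g) then 1 else 0 := by
      intro χ
      rw [Cfsg.Agent.Lib.Helper20.classInner_irr (ha _ χ.2) χ.2]
      congr 1
      exact propext ⟨fun h g => congrFun h g, fun h => funext h⟩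
    simp_rw [this]
    rw [Finset.sum_boole, Nat.card_eq_fintype_card, Fintype.card_subtype]
  have h2 : ∑ χ : Cfsg.IrrCharacter G, Cfsg.classInner (fun g => (χ : G → ℂ) (a g)) (χ : G → ℂ) =
      (Nat.card G : ℂ)⁻¹ * ∑ g : G,
        (if Q (ConjClasses.mk g) then (Nat.card (Subgroup.centralizer ({g} : Set G)) : ℂ) else 0) := by
    unfold Cfsg.classInner
    rw [← Finset.mul_sum, Finset.sum_comm]
    congr 1
    apply Finset.sum_congr rfl
    intro g _
    rw [Cfsg.Agent.Lib.Helper20.sum_irr_mul_conj (a g) g]
    by_cases h : IsConj (a g) g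
    · rw [if_pos h, if_pos ((hQ g).mpr h)]
      have h1 : (Subgroup.centralizer ({a g} : Set G)).index = (Subgroup.centralizer ({g} : Set G)).index := by
        rw [← Cfsg.Agent.Lib.Helper20.card_isConj_eq_index, ← Cfsg.Agent.Lib.Helper20.card_isConj_eq_index]
        apply Nat.card_congr
        apply Equiv.subtypeEquivRight
        intro x
        exact ⟨fun hx => h.symm.trans hx, fun hx => h.trans hx⟩
      have h2 := (Subgroup.centralizer ({a g} : Set G)).card_mul_index
      have h3 := (Subgroup.centralizer ({g} : Set G)).card_mul_index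
      rw [h1, ← h3] at h2
      have hpos : 0 < (Subgroup.centralizer ({g} : Set G)).index :=
        Nat.pos_of_ne_zero (Subgroup.index_ne_zero_of_finite)
      rw [Nat.eq_of_mul_eq_mul_right hpos h2]
    · rw [if_neg h, if_neg (fun hq => h ((hQ g).mp hq))]
  rw [h1, sum_card_centralizer_eq, ← mul_assoc, inv_mul_cancel₀ hG, one_mul] at h2
  exact_mod_cast h2

end Cfsg.Agent.Lib.Helper79
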