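import Mathlib
import Cfsg.Prelude.Def_Blocks
import Cfsg.Agent.Lib.Helper79.CharNorm
import Cfsg.Agent.Lib.Helper20.CharOrth

set_option autoImplicit false

namespace Cfsg.Agent.Lib.Helper79

open Module
open scoped ComplexConjugate

/-- First-power version of the Burnside/Thompson inequality. -/
theorem IsCharacter.card_units_le_sum_norm {G : Type*} [Group G] {χ : G → ℂ}
    (hχ : Cfsg.IsCharacter G χ) (n : ℕ) [NeZero n] (g : G) (hg : g ^ n = 1) (h0 : χ g ≠ 0) :
    (Fintype.card (ZMod n)ˣ : ℝ) ≤ ∑ u : (ZMod n)ˣ, ‖χ (g ^ (u : ZMod n).val)‖ := by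
  obtain ⟨s, m, h1, _, h3⟩ := IsCharacter.exists_weights χ hχ g n (NeZero.pos n) hg
  have e1 := h3 1
  simp only [pow_one] at e1
  have hp := one_le_prod_norm_weighted n s (fun μ => (m μ : ℤ)) h1 (by
    simp only [Int.cast_natCast]
    rw [← e1]; exact h0)
  simp only [Int.cast_natCast] at hp
  simp_rw [← h3] at hp
  have hpos : ∀ u : (ZMod n)ˣ, 0 < ‖χ (g ^ (u : ZMod n).val)‖ := by
    intro u
    by_contra hu
    have hz : ‖χ (g ^ (u : ZMod n).val)‖ = 0 := le_antisymm (not_lt.mp hu) (norm_nonneg _)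
    have : ∏ u : (ZMod n)ˣ, ‖χ (g ^ (u : ZMod n).val)‖ = 0 :=
      Finset.prod_eq_zero (Finset.mem_univ u) hz
    rw [this] at hp
    linarith
  have := card_le_sum_of_one_le_prod Finset.univ (fun u : (ZMod n)ˣ => ‖χ (g ^ (u : ZMod n).val)‖)
    (fun u _ => hpos u) hp
  simpa using this

theorem IsCharacter.card_le_sum_norm {G : Type*} [Group G] [Fintype G] {χ : G → ℂ}
    (hχ : Cfsg.IsCharacter G χ) (R : Finset G)
    (hR : ∀ (k : ℕ), k.Coprime (Nat.card G) → ∀ g : G, g ^ k ∈ R ↔ g ∈ R)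
    (h0 : ∀ g ∈ R, χ g ≠ 0) : (R.card : ℝ) ≤ ∑ g ∈ R, ‖χ g‖ := by
  classical
  have hn : 0 < Nat.card G := Nat.card_pos
  have : NeZero (Nat.card G) := ⟨hn.ne'⟩
  set n := Nat.card G with hndef
  have hU : 0 < (Fintype.card (ZMod n)ˣ : ℝ) := by exact_mod_cast Fintype.card_pos
  have h1 : ∀ u : (ZMod n)ˣ, ∑ g ∈ R, ‖χ (g ^ (u : ZMod n).val)‖ = ∑ g ∈ R, ‖χ g‖ := by
    intro u
    have hc : (Nat.card G).Coprime (u : ZMod n).val := (ZMod.val_coe_unit_coprime u).symm
    apply Finset.sum_equiv (powCoprime hc)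
    · intro g
      simp only [powCoprime_apply]
      exact (hR _ hc.symm g).symm
    · intro g _
      simp only [powCoprime_apply]
  have h2 : ∑ g ∈ R, ∑ u : (ZMod n)ˣ, ‖χ (g ^ (u : ZMod n).val)‖ =
      (Fintype.card (ZMod n)ˣ : ℝ) * ∑ g ∈ R, ‖χ g‖ := by
    rw [Finset.sum_comm]
    simp_rw [h1]
    simp
  have h3 : (R.card : ℝ) * (Fintype.card (ZMod n)ˣ : ℝ) ≤
      ∑ g ∈ R, ∑ u : (ZMod n)ˣ, ‖χ (g ^ (u : ZMod n).val)‖ := by
    have : ∀ g ∈ R, (Fintype.card (ZMod n)ˣ : ℝ) ≤ ∑ u : (ZMod n)ˣ, ‖χ (g ^ (u : ZMod n).val)‖ :=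
      fun g hg => IsCharacter.card_units_le_sum_norm hχ n g pow_card_eq_one' (h0 g hg)
    calc (R.card : ℝ) * (Fintype.card (ZMod n)ˣ : ℝ) = ∑ g ∈ R, (Fintype.card (ZMod n)ˣ : ℝ) := by simp
      _ ≤ _ := Finset.sum_le_sum this
  rw [h2, mul_comm] at h3
  exact le_of_mul_le_mul_left h3 hU

/-- The set of non-identity elements is stable under coprime power maps. -/
theorem pow_mem_erase_one_iff {G : Type*} [Group G] [Fintype G] [DecidableEq G] (k : ℕ)
    (hk : k.Coprime (Nat.card G)) (g : G) :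
    g ^ k ∈ Finset.univ.erase (1 : G) ↔ g ∈ Finset.univ.erase (1 : G) := by
  simp only [Finset.mem_erase, Finset.mem_univ, and_true, ne_eq]
  rw [not_iff_not]
  constructor
  · intro h
    have h2 : (powCoprime hk.symm) g = (powCoprime hk.symm) 1 := by
      simp [powCoprime_apply, h]
    exact (powCoprime hk.symm).injective h2
  · intro h; rw [h, one_pow]

/-- The average of a function over the cosets of a subgroup `N`. -/
noncomputable def navg {G : Type*} [Group G] (N : Subgroup G) [Fintype N] (φ : G → ℂ) : G → ℂ :=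
  fun g => (Nat.card N : ℂ)⁻¹ * ∑ n : N, φ ((n : G) * g)

theorem navg_add {G : Type*} [Group G] (N : Subgroup G) [Fintype N] (φ ψ : G → ℂ) :
    navg N (φ + ψ) = navg N φ + navg N ψ := by
  funext g
  simp [navg, Finset.sum_add_distrib, mul_add]

theorem navg_zero {G : Type*} [Group G] (N : Subgroup G) [Fintype N] :
    navg N (0 : G → ℂ) = 0 := by
  funext g
  simp [navg]

theorem card_ne_zero_complex' {N : Type*} [Finite N] [Nonempty N] : (Nat.card N : ℂ) ≠ 0 := by
  exact_mod_cast Nat.card_pos.ne'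

theorem navg_mul_left {G : Type*} [Group G] (N : Subgroup G) [Fintype N] (φ : G → ℂ) (m : N)
    (g : G) : navg N φ ((m : G) * g) = navg N φ g := by
  unfold navg
  congr 1
  rw [← Equiv.sum_comp (Equiv.mulRight m) (fun n : N => φ ((n : G) * g))]
  apply Finset.sum_congr rfl
  intro n _
  simp [mul_assoc]

/-- The `N`-average of an irreducible character is the character itself or zero. -/
theorem navg_irr {G : Type*} [Group G] (N : Subgroup G) [hN : N.Normal] [Fintype N] {ψ : G → ℂ}
    (hψ : Cfsg.IsIrrCharacter G ψ) : navg N ψ = ψ ∨ navg N ψ = 0 := by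
  classical
  obtain ⟨d, ρ, hρ, rfl⟩ := hψ
  have hcard : (Nat.card N : ℂ) ≠ 0 := card_ne_zero_complex'
  let P : (Fin d → ℂ) →ₗ[ℂ] (Fin d → ℂ) := ∑ n : N, ρ (n : G)
  have hcomm : ∀ g, P ∘ₗ ρ g = ρ g ∘ₗ P := by
    intro g
    show P * ρ g = ρ g * P
    simp only [P, Finset.sum_mul, Finset.mul_sum]
    rw [← Equiv.sum_comp (MulAut.conjNormal g : MulAut N).toEquiv (fun n : N => ρ (n : G) * ρ g)]
    apply Finset.sum_congr rfl
    intro n _
    have : (((MulAut.conjNormal g : MulAut N).toEquiv n : N) : G) = g * n * g⁻¹ := by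
      simp [MulAut.conjNormal_apply]
    rw [this, ← map_mul, ← map_mul]
    congr 1
    group
  obtain ⟨c, hc⟩ := schur_scalar ρ P hcomm
  have hPP : P * P = (Nat.card N : ℂ) • P := by
    have h1 : ∀ m : N, ρ (m : G) * P = P := by
      intro m
      simp only [P, Finset.mul_sum]
      rw [← Equiv.sum_comp (Equiv.mulLeft m) (fun n : N => ρ (n : G))]
      apply Finset.sum_congr rfl
      intro n _
      simp [map_mul]
    conv_lhs => rw [show P * P = (∑ n : N, ρ (n : G)) * P from rfl, Finset.sum_mul]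
    simp_rw [h1]
    rw [Finset.sum_const, Finset.card_univ, ← Nat.card_eq_fintype_card, Nat.cast_smul_eq_nsmul]
  have hV : (LinearMap.id : (Fin d → ℂ) →ₗ[ℂ] (Fin d → ℂ)) ≠ 0 := by
    intro h0
    have hpos := IsIrreducible.finrank_pos ρ
    have : (LinearMap.trace ℂ (Fin d → ℂ)) LinearMap.id = 0 := by rw [h0, map_zero]
    rw [LinearMap.trace_id] at this
    have h2 : finrank ℂ (Fin d → ℂ) = 0 := by exact_mod_cast this
    omega
  have hcc : c * c = (Nat.card N : ℂ) * c := by
    rw [hc] at hPP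
    have h3 : (c • (LinearMap.id : (Fin d → ℂ) →ₗ[ℂ] (Fin d → ℂ))) * (c • LinearMap.id) =
        (c * c) • LinearMap.id := by
      ext v; simp [mul_assoc]
    rw [h3, smul_smul] at hPP
    have h4 := congrArg (LinearMap.trace ℂ (Fin d → ℂ)) hPP
    rw [map_smul, map_smul, LinearMap.trace_id, smul_eq_mul, smul_eq_mul] at h4
    have hpos := IsIrreducible.finrank_pos ρ
    have h5 : ((finrank ℂ (Fin d → ℂ) : ℕ) : ℂ) ≠ 0 := by exact_mod_cast hpos.ne'
    exact mul_right_cancel₀ h5 h4
  have hval : ∀ g, navg N ρ.character g = (Nat.card N : ℂ)⁻¹ * c * ρ.character g := by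
    intro g
    unfold navg
    have : ∑ n : N, ρ.character ((n : G) * g) = LinearMap.trace ℂ _ (P * ρ g) := by
      simp only [P, Finset.sum_mul, map_sum, Representation.character, map_mul]
    rw [this, hc]
    have h5 : (c • (LinearMap.id : (Fin d → ℂ) →ₗ[ℂ] (Fin d → ℂ))) * ρ g = c • ρ g := by
      ext v; simp
    rw [h5, map_smul, smul_eq_mul, mul_assoc]
    rfl
  have hc01 : c = 0 ∨ c = (Nat.card N : ℂ) := by
    by_cases h0 : c = 0
    · left; exact h0
    · right; exact mul_right_cancel₀ h0 hcc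
  rcases hc01 with h | h
  · right
    funext g
    rw [hval, h]; simp
  · left
    funext g
    rw [hval, h, inv_mul_cancel₀ hcard, one_mul]

/-- The `N`-average of a character is a character. -/
theorem navg_isCharacter {G : Type*} [Group G] [Finite G] (N : Subgroup G) [hN : N.Normal]
    [Fintype N] {φ : G → ℂ} (hφ : Cfsg.IsCharacter G φ) : Cfsg.IsCharacter G (navg N φ) := by
  obtain ⟨l, rfl⟩ := Cfsg.Agent.Lib.Helper20.exists_multiset_of_isCharacter hφ
  induction l using Multiset.induction_on with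
  | empty =>
    simp only [Multiset.map_zero, Multiset.sum_zero]
    rw [navg_zero]
    exact Cfsg.Agent.Lib.Helper20.isCharacter_zero
  | cons a l ih =>
    rw [Multiset.map_cons, Multiset.sum_cons, navg_add]
    apply Cfsg.Agent.Lib.Helper20.isCharacter_add _ (ih (Cfsg.Agent.Lib.Helper20.isCharacter_multiset_sum l))
    rcases navg_irr N a.2 with h | h
    · rw [h]; exact IsIrrCharacter.isCharacter a.2
    · rw [h]; exact Cfsg.Agent.Lib.Helper20.isCharacter_zero

/-- Pairing the `N`-average with an `N`-invariant function. -/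
theorem classInner_navg_left {G : Type*} [Group G] [Fintype G] (N : Subgroup G) [Fintype N]
    (φ β : G → ℂ) (hβ : ∀ (n : N) (g : G), β ((n : G) * g) = β g) :
    Cfsg.classInner (navg N φ) β = Cfsg.classInner φ β := by
  have hcard : (Nat.card N : ℂ) ≠ 0 := card_ne_zero_complex'
  unfold Cfsg.classInner navg
  congr 1
  have h1 : ∀ n : N, ∑ g : G, φ ((n : G) * g) * conj (β g) = ∑ g : G, φ g * conj (β g) := by
    intro n
    rw [← Equiv.sum_comp (Equiv.mulLeft (n : G)) (fun g => φ g * conj (β g))]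
    apply Finset.sum_congr rfl
    intro g _
    simp [hβ]
  calc ∑ g : G, (Nat.card N : ℂ)⁻¹ * (∑ n : N, φ ((n : G) * g)) * conj (β g)
      = (Nat.card N : ℂ)⁻¹ * ∑ n : N, ∑ g : G, φ ((n : G) * g) * conj (β g) := by
        rw [Finset.sum_comm, Finset.mul_sum]
        apply Finset.sum_congr rfl
        intro g _
        rw [mul_assoc, Finset.sum_mul]
    _ = (Nat.card N : ℂ)⁻¹ * ∑ n : N, ∑ g : G, φ g * conj (β g) := by simp_rw [h1]
    _ = ∑ g : G, φ g * conj (β g) := by
        rw [Finset.sum_const, Finset.card_univ, ← Nat.card_eq_fintype_card, nsmul_eq_mul,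
          ← mul_assoc, inv_mul_cancel₀ hcard, one_mul]

theorem navg_mul_conj_one {G : Type*} [Group G] (N : Subgroup G) [Fintype N] (ψ χ : G → ℂ) :
    navg N (fun g => ψ g * conj (χ g)) 1 =
      Cfsg.classInner (fun n : N => ψ n) (fun n : N => χ n) := by
  unfold navg Cfsg.classInner
  simp

/-- A character of degree zero vanishes identically. -/
theorem IsCharacter.eq_zero_of_one_eq_zero {G : Type*} [Group G] {χ : G → ℂ}
    (hχ : Cfsg.IsCharacter G χ) (h : χ 1 = 0) : χ = 0 := by
  obtain ⟨d, ρ, rfl⟩ := hχ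
  rw [Representation.char_one] at h
  have hd : finrank ℂ (Fin d → ℂ) = 0 := by exact_mod_cast h
  have : Subsingleton (Fin d → ℂ) := Module.finrank_zero_iff.mp hd
  funext g
  have h0 : ρ g = 0 := by
    ext v
    exact congrFun (Subsingleton.elim _ _) _
  simp [Representation.character, h0]

end Cfsg.Agent.Lib.Helper79
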