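import Cfsg.Agent.Lib.Helper79.DegreeRatio
import Cfsg.Agent.Lib.Helper79.NAverage
import Cfsg.Agent.Lib.Helper5.IndDeg

set_option autoImplicit false

namespace Cfsg.Agent.Lib.Helper79

open Cfsg ComplexConjugate Cfsg.Agent.Lib.Helper19 Cfsg.Agent.Lib.Helper20 Cfsg.Agent.Lib.Helper82

/-- Every irreducible character of a subgroup lies under an irreducible character. -/
theorem exists_irr_over {G : Type*} [Group G] [Fintype G] (N : Subgroup G) [Fintype N]
    {θ : N → ℂ} (hθ : IsIrrCharacter N θ) :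
    ∃ χ : G → ℂ, IsIrrCharacter G χ ∧ classInner (fun n : N => χ n) θ ≠ 0 := by
  have hind : IsCharacter G (indFun N θ) :=
    isCharacter_indFun N θ (isCharacter_of_isIrrCharacter hθ)
  have h1 : indFun N θ 1 ≠ 0 := by
    rw [indFun_apply_one]
    exact mul_ne_zero (by exact_mod_cast N.index_ne_zero_of_finite)
      (IsIrrCharacter.one_ne_zero hθ)
  obtain ⟨χ, hχ, hc⟩ := Cfsg.Agent.Lib.Helper5.exists_constituent hind h1
  refine ⟨χ, hχ, ?_⟩
  rw [frobenius_reciprocity N θ χ
    (isClassFunction_of_isCharacter (isCharacter_of_isIrrCharacter hχ))] at hc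
  intro h0
  apply hc
  rw [← classInner_conj_symm, h0, map_zero]

/-- Two characters with a common irreducible constituent are not orthogonal. -/
theorem classInner_ne_zero_of_common {N : Type*} [Group N] [Fintype N] {α β θ : N → ℂ}
    (hα : IsCharacter N α) (hβ : IsCharacter N β) (hθ : IsIrrCharacter N θ)
    (h1 : classInner α θ ≠ 0) (h2 : classInner β θ ≠ 0) : classInner α β ≠ 0 := by
  obtain ⟨m, α', hm, hα', rfl, hα0⟩ := IsCharacter.exists_eq_smul_add hα hθ
  obtain ⟨m', β', hm', hβ', rfl, hβ0⟩ := IsCharacter.exists_eq_smul_add hβ hθ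
  obtain ⟨k, hk⟩ := isCharacter_classInner_nat' hα' hβ'
  have hm0 : m ≠ 0 := by
    rintro rfl
    apply h1; rw [hm]; simp
  have hm0' : m' ≠ 0 := by
    rintro rfl
    apply h2; rw [hm']; simp
  have hβ0' : classInner θ β' = 0 := by rw [← classInner_conj_symm, hβ0, map_zero]
  rw [classInner_add_left, classInner_add_right, classInner_add_right, classInner_smul_left,
    classInner_smul_left, classInner_smul_right, classInner_smul_right, classInner_irr_self hθ,
    hβ0', hα0, hk]
  simp only [map_natCast, mul_one, mul_zero, add_zero, zero_add]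
  have : m * m' + k ≠ 0 := by
    have := Nat.mul_pos (Nat.pos_of_ne_zero hm0) (Nat.pos_of_ne_zero hm0')
    omega
  exact_mod_cast this

/-- The coset average is self-adjoint. -/
theorem classInner_navg_adjoint {G : Type*} [Group G] [Fintype G] (N : Subgroup G) [Fintype N]
    (φ β : G → ℂ) : classInner (navg N φ) β = classInner φ (navg N β) := by
  unfold classInner navg
  congr 1
  simp only [map_mul, map_inv₀, map_natCast, map_sum]
  have h1 : ∀ n : N, ∑ g : G, φ ((n : G) * g) * conj (β g) =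
      ∑ g : G, φ g * conj (β ((n⁻¹ : N) * g)) := by
    intro n
    rw [← Equiv.sum_comp (Equiv.mulLeft (n : G)) (fun g => φ g * conj (β ((n⁻¹ : N) * g)))]
    apply Finset.sum_congr rfl
    intro g _
    simp
  calc ∑ g : G, (Nat.card N : ℂ)⁻¹ * (∑ n : N, φ ((n : G) * g)) * conj (β g)
      = (Nat.card N : ℂ)⁻¹ * ∑ n : N, ∑ g : G, φ ((n : G) * g) * conj (β g) := by
        rw [Finset.sum_comm, Finset.mul_sum]
        apply Finset.sum_congr rfl
        intro g _
        rw [mul_assoc, Finset.sum_mul]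
    _ = (Nat.card N : ℂ)⁻¹ * ∑ n : N, ∑ g : G, φ g * conj (β ((n⁻¹ : N) * g)) := by
        simp_rw [h1]
    _ = (Nat.card N : ℂ)⁻¹ * ∑ n : N, ∑ g : G, φ g * conj (β ((n : N) * g)) := by
        congr 1
        exact Equiv.sum_comp (Equiv.inv N) (fun n : N => ∑ g : G, φ g * conj (β ((n : N) * g)))
    _ = ∑ g : G, φ g * ((Nat.card N : ℂ)⁻¹ * ∑ n : N, conj (β ((n : G) * g))) := by
        rw [Finset.sum_comm, Finset.mul_sum]
        apply Finset.sum_congr rfl
        intro g _
        rw [← Finset.mul_sum]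
        ring

/-- An irreducible character which is constant on the cosets of a normal subgroup `N` with abelian
quotient is linear. -/
theorem exists_hom_of_irr_of_abelian_quotient {G : Type*} [Group G] [Finite G] (N : Subgroup G)
    (hab : ∀ x y : G, x * y * x⁻¹ * y⁻¹ ∈ N) {α : G → ℂ} (hα : IsIrrCharacter G α)
    (hN : ∀ n ∈ N, α n = α 1) :
    ∃ a : G →* ℂˣ, α = homFun a ∧ ∀ n ∈ N, a n = 1 := by
  have hαc := isCharacter_of_isIrrCharacter hα
  obtain ⟨k, ρ, hρ, rfl⟩ := hα
  have h1 : ∀ n : N, ρ n = ((((1 : N →* ℂˣ) n : ℂˣ)) : ℂ) • LinearMap.id :=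
    scalar_of_character_eq ρ N 1 (by
      intro x
      rw [hN x x.2, Representation.char_one]
      simp)
  have h1' : ∀ n ∈ N, ρ n = 1 := by
    intro n hn
    have := h1 ⟨n, hn⟩
    simp only [MonoidHom.one_apply, Units.val_one, one_smul] at this
    exact this
  have hcomm : ∀ g h : G, ρ g * ρ h = ρ h * ρ g := by
    intro g h
    have h2 := h1' _ (hab g h)
    rw [map_mul, map_mul, map_mul] at h2
    have h3 : ρ g * ρ h = (ρ g * ρ h * ρ g⁻¹ * ρ h⁻¹) * (ρ h * ρ g) := by
      have e1 : ρ h⁻¹ * ρ h = 1 := by rw [← map_mul, inv_mul_cancel, map_one]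
      have e2 : ρ g⁻¹ * ρ g = 1 := by rw [← map_mul, inv_mul_cancel, map_one]
      calc ρ g * ρ h = ρ g * ρ h * (ρ g⁻¹ * (ρ h⁻¹ * ρ h) * ρ g) := by
            rw [e1, mul_one, e2, mul_one]
        _ = _ := by simp only [mul_assoc]
    rw [h3, h2, one_mul]
  have hsc : ∀ g ∈ (⊤ : Subgroup G), ∃ c : ℂ, ρ g = c • LinearMap.id := by
    intro g _
    exact schur_scalar ρ (ρ g) (fun h => hcomm g h)
  have hdvd := finrank_dvd_index_of_scalar ρ hρ ⊤ hsc
  rw [Subgroup.index_top, Nat.dvd_one, Module.finrank_fin_fun] at hdvd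
  have hone : ρ.character 1 = 1 := by
    rw [Representation.char_one, Module.finrank_fin_fun, hdvd]
    simp
  obtain ⟨a, ha⟩ := exists_hom_of_linear ρ.character ⟨hαc, hone⟩
  refine ⟨a, ha, ?_⟩
  intro n hn
  apply Units.ext
  have := hN n hn
  rw [hone, ha] at this
  exact this

/-- If `G/N` is abelian, two irreducible characters of `G` whose restrictions to `N` are not
orthogonal differ by a linear character of `G/N`. -/
theorem exists_linear_twist {G : Type*} [Group G] [Finite G] (N : Subgroup G) [N.Normal]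
    [Fintype N] (hab : ∀ x y : G, x * y * x⁻¹ * y⁻¹ ∈ N) {χ χ' : G → ℂ}
    (hχ : IsIrrCharacter G χ) (hχ' : IsIrrCharacter G χ')
    (h : classInner (fun n : N => χ' n) (fun n : N => χ n) ≠ 0) :
    ∃ a : G →* ℂˣ, (∀ n ∈ N, a n = 1) ∧ ∀ g, χ' g = (a g : ℂ) * χ g := by
  classical
  have := Fintype.ofFinite G
  set Ξ : G → ℂ := fun g => χ' g * conj (χ g) with hΞdef
  have hΞ : IsCharacter G Ξ := isCharacter_mul (isCharacter_of_isIrrCharacter hχ')
    (isCharacter_conj (isCharacter_of_isIrrCharacter hχ))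
  have hΦ : IsCharacter G (navg N Ξ) := navg_isCharacter N hΞ
  have hΦ1 : navg N Ξ 1 ≠ 0 := by
    rw [hΞdef, navg_mul_conj_one]
    exact h
  obtain ⟨α, hα, hαc⟩ := Cfsg.Agent.Lib.Helper5.exists_constituent hΦ hΦ1
  have hnav : navg N α = α := by
    rcases navg_irr N hα with h1 | h1
    · exact h1
    · exfalso
      apply hαc
      rw [classInner_navg_adjoint, h1, classInner_zero_right]
  have hαN : ∀ (n : N) (g : G), α ((n : G) * g) = α g := by
    intro n g
    rw [← hnav]
    exact navg_mul_left N α n g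
  obtain ⟨a, ha, haN⟩ := exists_hom_of_irr_of_abelian_quotient N hab hα (by
    intro n hn
    have := hαN ⟨n, hn⟩ 1
    simpa using this)
  refine ⟨a, haN, ?_⟩
  have h2 : classInner Ξ α ≠ 0 := by
    rw [← classInner_navg_left N Ξ α hαN]
    exact hαc
  have hirr : IsIrrCharacter G (homFun a * χ) :=
    isIrr_linear_mul (isCharacter_homFun a).1 (isCharacter_homFun a).2 hχ
  have h3 : classInner χ' (homFun a * χ) ≠ 0 := by
    intro h0
    apply h2
    rw [← h0, ha]
    unfold classInner
    congr 1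
    apply Finset.sum_congr rfl
    intro g _
    simp only [hΞdef, Pi.mul_apply, map_mul]
    ring
  have h4 : χ' = homFun a * χ := by
    by_contra hne
    exact h3 (classInner_irr_ne hχ' hirr hne)
  intro g
  rw [h4]
  rfl

end Cfsg.Agent.Lib.Helper79
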