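import Mathlib
import Cfsg.Prelude.Def_Blocks
import Cfsg.Agent.Lib.Helper20.CharOrth

set_option autoImplicit false

namespace Cfsg.Agent.Lib.Helper79

open scoped ComplexConjugate

/-- Splitting off an irreducible constituent with its full multiplicity. -/
theorem IsCharacter.exists_eq_smul_add {G : Type*} [Group G] [Fintype G] {Φ ψ : G → ℂ}
    (hΦ : Cfsg.IsCharacter G Φ) (hψ : Cfsg.IsIrrCharacter G ψ) :
    ∃ (m : ℕ) (Φ' : G → ℂ), Cfsg.classInner Φ ψ = m ∧ Cfsg.IsCharacter G Φ' ∧
      Φ = (m : ℂ) • ψ + Φ' ∧ Cfsg.classInner Φ' ψ = 0 := by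
  classical
  obtain ⟨l, rfl⟩ := Cfsg.Agent.Lib.Helper20.exists_multiset_of_isCharacter hΦ
  set ψ' : Cfsg.IrrCharacter G := ⟨ψ, hψ⟩ with hψ'
  have key : ∀ l : Multiset (Cfsg.IrrCharacter G), ∃ l' : Multiset (Cfsg.IrrCharacter G),
      (l.map Subtype.val).sum = ((l.count ψ' : ℕ) : ℂ) • ψ + (l'.map Subtype.val).sum ∧
        l'.count ψ' = 0 := by
    intro l
    induction l using Multiset.induction_on with
    | empty => exact ⟨0, by simp, by simp⟩
    | cons a l ih =>
      obtain ⟨l', h1, h2⟩ := ih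
      by_cases ha : a = ψ'
      · refine ⟨l', ?_, h2⟩
        rw [Multiset.map_cons, Multiset.sum_cons, h1, ha, Multiset.count_cons_self]
        push_cast
        rw [add_smul, one_smul]
        abel
      · refine ⟨a ::ₘ l', ?_, ?_⟩
        · rw [Multiset.map_cons, Multiset.sum_cons, h1, Multiset.map_cons, Multiset.sum_cons,
            Multiset.count_cons_of_ne (Ne.symm ha)]
          abel
        · rw [Multiset.count_cons_of_ne (Ne.symm ha), h2]
  obtain ⟨l', h1, h2⟩ := key l
  refine ⟨l.count ψ', (l'.map Subtype.val).sum,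
    Cfsg.Agent.Lib.Helper20.classInner_multiset_sum l ψ',
    Cfsg.Agent.Lib.Helper20.isCharacter_multiset_sum _, h1, ?_⟩
  have := Cfsg.Agent.Lib.Helper20.classInner_multiset_sum l' ψ'
  rw [h2] at this
  simpa using this

/-- The degree of a character is at least multiplicity times degree of a constituent. -/
theorem IsCharacter.mult_mul_degree_le {G : Type*} [Group G] [Fintype G] {Φ ψ : G → ℂ}
    (hΦ : Cfsg.IsCharacter G Φ) (hψ : Cfsg.IsIrrCharacter G ψ) (m d D : ℕ)
    (hm : Cfsg.classInner Φ ψ = m) (hd : ψ 1 = d) (hD : Φ 1 = D) : m * d ≤ D := by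
  obtain ⟨m', Φ', h1, h2, h3, _⟩ := IsCharacter.exists_eq_smul_add hΦ hψ
  have hmm : m = m' := by
    rw [hm] at h1; exact_mod_cast h1
  subst hmm
  obtain ⟨k, hk⟩ := Cfsg.Agent.Lib.Helper20.isCharacter_apply_one h2
  have := congrFun h3 1
  simp only [Pi.add_apply, Pi.smul_apply, smul_eq_mul, hd, hD, hk] at this
  have h4 : D = m * d + k := by exact_mod_cast this
  omega

end Cfsg.Agent.Lib.Helper79
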