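import Cfsg.Agent.Lib.Helper79.HatGroup
import Cfsg.Agent.Lib.Helper79.FullyRamified2
import Cfsg.Agent.Lib.Helper79.Mult
import Cfsg.Agent.Lib.Helper82.Linear
import Cfsg.Agent.S0179

set_option autoImplicit false

namespace Cfsg.Agent.Lib.Helper79

open Cfsg ComplexConjugate Cfsg.Agent.Lib.Helper19 Cfsg.Agent.Lib.Helper20 Cfsg.Agent.Lib.Helper82

/-- If a subgroup `M` acts by scalars in an irreducible representation, the degree divides the
index of `M`. -/
theorem finrank_dvd_index_of_scalar {Γ V : Type*} [Group Γ] [Finite Γ] [AddCommGroup V]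
    [Module ℂ V] [FiniteDimensional ℂ V] (ρ : Representation ℂ Γ V) (hρ : ρ.IsIrreducible)
    (M : Subgroup Γ) (hM : ∀ x ∈ M, ∃ c : ℂ, ρ x = c • LinearMap.id) :
    Module.finrank ℂ V ∣ M.index := by
  let r : Γ →* (Module.End ℂ V)ˣ := ρ.asGroupHom
  let Q : Subgroup (Module.End ℂ V)ˣ := r.range
  let f : Γ →* Q := r.rangeRestrict
  have hf : Function.Surjective f := r.rangeRestrict_surjective
  let σ : Representation ℂ Q V := (Units.coeHom _).comp Q.subtype
  have hσρ : repComp σ f = ρ := by
    ext x v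
    rfl
  have hσ : σ.IsIrreducible := by
    rw [← isIrreducible_comp_iff f hf σ, hσρ]
    exact hρ
  have hQfin : Finite Q := Finite.of_surjective f hf
  have h1 := Cfsg.Agent.S0179.result σ
  have hle : M.map f ≤ Subgroup.center Q := by
    rintro _ ⟨x, hx, rfl⟩
    rw [Subgroup.mem_center_iff]
    intro q
    obtain ⟨c, hc⟩ := hM x hx
    apply Subtype.ext
    apply Units.ext
    show ((q : (Module.End ℂ V)ˣ) : Module.End ℂ V) * ρ x = ρ x * ((q : (Module.End ℂ V)ˣ) : Module.End ℂ V)
    rw [hc]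
    ext v
    simp
  exact h1.trans ((Subgroup.index_dvd_of_le hle).trans (Subgroup.index_map_dvd M hf))

/-- If the character of `ρ` on `M` is `dim * lam` for a linear character `lam`, then `M` acts by
the scalars `lam`. -/
theorem scalar_of_character_eq {Γ : Type*} [Group Γ] [Finite Γ] {k : ℕ}
    (ρ : Representation ℂ Γ (Fin k → ℂ)) (M : Subgroup Γ) (lam : M →* ℂˣ)
    (h : ∀ x : M, ρ.character x = (k : ℂ) * (lam x : ℂ)) (x : M) :
    ρ x = ((lam x : ℂˣ) : ℂ) • LinearMap.id := by
  let σ : Representation ℂ M (Fin k → ℂ) := (Units.coeHom _).comp ((scalU k).comp lam)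
  have hσ : ∀ y : M, σ y = ((lam y : ℂˣ) : ℂ) • LinearMap.id := by
    intro y
    show ((scalU k (lam y) : (EE k)ˣ) : EE k) = _
    rw [scalU_coe]
    rfl
  let ρM : Representation ℂ M (Fin k → ℂ) := MonoidHom.comp ρ M.subtype
  have hchar : σ.character = ρM.character := by
    funext y
    show LinearMap.trace ℂ _ (σ y) = ρ.character y
    rw [h y, hσ, map_smul, LinearMap.trace_id]
    simp [mul_comm]
  obtain ⟨φ⟩ := Cfsg.Agent.S0153.result σ ρM hchar
  have h1 := φ.conj_apply_self x
  show ρM x = _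
  rw [← h1, hσ, map_smul]
  congr 1
  exact LinearEquiv.conj_id _

/-- A character whose restriction to `M` involves `φ` has an irreducible constituent whose
restriction involves `φ`. -/
theorem exists_irr_constituent_over {Γ : Type*} [Group Γ] [Fintype Γ] (M : Subgroup Γ) [Fintype M]
    {Ξ : Γ → ℂ} (hΞ : IsCharacter Γ Ξ) (φ : M → ℂ)
    (h : classInner (fun x : M => Ξ x) φ ≠ 0) :
    ∃ β : Γ → ℂ, IsIrrCharacter Γ β ∧ classInner Ξ β ≠ 0 ∧
      classInner (fun x : M => β x) φ ≠ 0 := by
  classical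
  have := finite_irrCharacter (G := Γ)
  have := Fintype.ofFinite (IrrCharacter Γ)
  have hexp := eq_sum_classInner_smul (isClassFunction_of_isCharacter hΞ)
  by_contra hno
  push Not at hno
  apply h
  have h1 : (fun x : M => Ξ x) =
      ∑ β : IrrCharacter Γ, classInner Ξ (β : Γ → ℂ) • (fun x : M => (β : Γ → ℂ) x) := by
    funext x
    have := congrFun hexp (x : Γ)
    rw [this]
    simp [Finset.sum_apply]
  rw [h1, classInner_sum_left]
  apply Finset.sum_eq_zero
  intro β _
  rw [classInner_smul_left]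
  by_cases hb : classInner Ξ (β : Γ → ℂ) = 0
  · rw [hb, zero_mul]
  · rw [hno β β.2 hb, mul_zero]

/-- **The invariant case of `χ(1)/ϑ(1) ∣ |G : N|`.** -/
theorem dvd_index_of_restrict_eq_smul {G : Type*} [Group G] [Finite G] (N : Subgroup G)
    [hN : N.Normal] {χ : G → ℂ} (hχ : IsIrrCharacter G χ) {ϑ : N → ℂ} (hϑ : IsIrrCharacter N ϑ)
    (e : ℕ) (h : ∀ n : N, χ n = (e : ℂ) * ϑ n) (he : e ≠ 0) : e ∣ N.index := by
  classical
  have hinv0 := invariant_of_restrict_eq_mul N (isCharacter_of_isIrrCharacter hχ) (e : ℂ)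
    (by exact_mod_cast he) h
  obtain ⟨d, ρ, hρ, rfl⟩ := hϑ
  have hinv : ∀ (g : G) (n : N), ρ.character (MulAut.conjNormal g n) = ρ.character n :=
    fun g n => hinv0 g n
  let m : G →* ℂˣ := 1
  have hfin : Finite (hatG N ρ m) := finite_hatG N ρ m hρ
  have := Fintype.ofFinite (hatG N ρ m)
  have := Fintype.ofFinite (hatN N ρ m)
  obtain ⟨lam, hlam, hlaminv⟩ := exists_lamHom N ρ m hρ
  have hsurj := hatPi_surjective N ρ m hρ hinv
  have hd := pos_of_irr N ρ hρ
  set χh : hatG N ρ m → ℂ := fun x => χ (hatPi N ρ m x) with hχh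
  have hχhirr : IsIrrCharacter _ χh := isIrr_comp_surj hχ (hatPi N ρ m) hsurj
  set τc : hatG N ρ m → ℂ := (tauRep N ρ m).character with hτc
  have hτirr : IsIrrCharacter _ τc :=
    ⟨d, tauRep N ρ m, tauRep_isIrreducible N ρ m hρ hinv, rfl⟩
  have hτN : ∀ x : hatN N ρ m, τc x = (lam x : ℂ) * ρ.character (hatPiN N ρ m x) := by
    intro x
    show LinearMap.trace ℂ _ ((tauHom N ρ m x : (EE d)ˣ) : EE d) = _
    rw [hlam x, Units.val_mul, scalU_coe, smul_mul_assoc, one_mul, map_smul]
    rfl
  set lamBar : hatN N ρ m → ℂ := homFun lam⁻¹ with hlamBar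
  have hlb : IsIrrCharacter _ lamBar :=
    isChar_linear_isIrr (isCharacter_homFun _).1 (isCharacter_homFun _).2
  have hlbinv : ∀ (y : hatG N ρ m) (x : hatN N ρ m),
      lamBar ⟨y * x * y⁻¹, (hatN_normal N ρ m).conj_mem x x.2 y⟩ = lamBar x := by
    intro y x
    simp only [hlamBar, homFun_apply, MonoidHom.inv_apply, hlaminv]
  set Ξ : hatG N ρ m → ℂ := fun x => χh x * conj (τc x) with hΞdef
  have hΞ : IsCharacter _ Ξ := isCharacter_mul (isCharacter_of_isIrrCharacter hχhirr)
    (isCharacter_conj (isCharacter_of_isIrrCharacter hτirr))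
  have hϑh : IsIrrCharacter (hatN N ρ m) (fun x => ρ.character (hatPiN N ρ m x)) :=
    isIrr_comp_surj ⟨d, ρ, hρ, rfl⟩ (hatPiN N ρ m) (fun n => exists_hatN_over N ρ m hρ hinv n)
  have hΞlam : classInner (fun x : hatN N ρ m => Ξ x) lamBar = e := by
    have h1 := classInner_irr_self hϑh
    have h2 : classInner (fun x : hatN N ρ m => Ξ x) lamBar =
        (e : ℂ) * classInner (fun x => ρ.character (hatPiN N ρ m x))
          (fun x => ρ.character (hatPiN N ρ m x)) := by
      unfold classInner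
      rw [mul_left_comm]
      congr 1
      rw [Finset.mul_sum]
      apply Finset.sum_congr rfl
      intro x _
      have hl0 : conj ((lam x : ℂˣ) : ℂ) ≠ 0 := by
        simp
      have e1 : χh (x : hatG N ρ m) = (e : ℂ) * ρ.character (hatPiN N ρ m x) := h (hatPiN N ρ m x)
      simp only [hΞdef, hlamBar, homFun_apply, MonoidHom.inv_apply, Units.val_inv_eq_inv_val,
        map_inv₀, hτN x, e1, map_mul]
      field_simp
    rw [h2, h1, mul_one]
  obtain ⟨β, hβ, hΞβ, hβlam⟩ := exists_irr_constituent_over (hatN N ρ m) hΞ lamBar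
    (by rw [hΞlam]; exact_mod_cast he)
  obtain ⟨f, hf0, hβN, hβf⟩ := restrict_eq_smul_of_invariant (hatN N ρ m) hβ hlb hβlam hlbinv
  obtain ⟨mm, Δ, hm1, hΔ, hΞeq, -⟩ := IsCharacter.exists_eq_smul_add hΞ hβ
  have hmm : mm ≠ 0 := by
    rintro rfl
    apply hΞβ
    rw [hm1]; simp
  obtain ⟨k, hk⟩ := isCharacter_classInner_nat (isCharacter_restrict hΔ (hatN N ρ m)) hlb
  have hfe : mm * f + k = e := by
    have h3 : (fun x : hatN N ρ m => Ξ x) =
        (mm : ℂ) • (fun x : hatN N ρ m => β x) + (fun x : hatN N ρ m => Δ x) := by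
      funext x
      rw [hΞeq]
      rfl
    rw [h3, classInner_add_left, classInner_smul_left, hβf] at hΞlam
    rw [show classInner (fun x : hatN N ρ m => Δ x) lamBar = k from hk] at hΞlam
    exact_mod_cast hΞlam
  have hfle : f ≤ e := by
    have : f ≤ mm * f := Nat.le_mul_of_pos_left f (Nat.pos_of_ne_zero hmm)
    omega
  have hin : classInner (fun x => τc x * β x) χh = mm := by
    have h4 : classInner (fun x => τc x * β x) χh = conj (classInner Ξ β) := by
      rw [classInner_conj_symm]
      unfold classInner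
      congr 1
      apply Finset.sum_congr rfl
      intro x _
      simp only [hΞdef, map_mul, Complex.conj_conj]
      ring
    rw [h4, hm1]
    simp
  have hβ1 : β 1 = f := by
    have := congrFun hβN 1
    simp only [Pi.smul_apply, smul_eq_mul, hlamBar, homFun_apply, map_one, Units.val_one,
      mul_one] at this
    exact this
  have hχ1 : χh 1 = ((e * d : ℕ) : ℂ) := by
    have h5 : χh 1 = χ ((1 : N) : G) := by
      simp only [hχh, map_one]
      rfl
    rw [h5, h 1, Representation.char_one]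
    simp
  have hτ1 : τc 1 = d := by
    rw [hτc, Representation.char_one]
    simp
  have hdeg := IsCharacter.mult_mul_degree_le
    (isCharacter_mul (isCharacter_of_isIrrCharacter hτirr) (isCharacter_of_isIrrCharacter hβ))
    hχhirr mm (e * d) (d * f) hin hχ1 (by
      show τc 1 * β 1 = _
      rw [hτ1, hβ1]; push_cast; ring)
  have hef : e ≤ f := by
    have h6 : e * d ≤ mm * (e * d) := Nat.le_mul_of_pos_left _ (Nat.pos_of_ne_zero hmm)
    have h7 : e * d ≤ f * d := by
      rw [mul_comm f d]; exact h6.trans hdeg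
    exact Nat.le_of_mul_le_mul_right h7 hd
  have hfe' : f = e := le_antisymm hfle hef
  obtain ⟨k', ρβ, hρβ, rfl⟩ := hβ
  have hk' : k' = f := by
    rw [Representation.char_one] at hβ1
    simpa using hβ1
  have hsc := scalar_of_character_eq ρβ (hatN N ρ m) lam⁻¹ (by
    intro x
    have := congrFun hβN x
    rw [← hk'] at this
    exact this)
  have hdvd := finrank_dvd_index_of_scalar ρβ hρβ (hatN N ρ m)
    (fun x hx => ⟨_, hsc ⟨x, hx⟩⟩)
  rw [Module.finrank_fin_fun, hk', hfe'] at hdvd
  have hidx : (hatN N ρ m).index = N.index := Subgroup.index_comap_of_surjective N hsurj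
  rwa [hidx] at hdvd

end Cfsg.Agent.Lib.Helper79
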