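import Mathlib

/-! # Self-dual modules: splitting into an alternating and a symmetric part -/

set_option autoImplicit false

namespace Cfsg.Agent.Lib.Helper79.SDS

open Module

universe u v w

variable {F : Type w} [Field F] {G : Type u} [Group G] {V : Type v} [AddCommGroup V] [Module F V]

theorem inv_left (ρ : G →* Module.End F V) (g : G) : ρ g⁻¹ * ρ g = 1 := by
  rw [← map_mul, inv_mul_cancel, map_one]

theorem inv_right (ρ : G →* Module.End F V) (g : G) : ρ g * ρ g⁻¹ = 1 := by
  rw [← map_mul, mul_inv_cancel, map_one]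

theorem odd_case [FiniteDimensional F V] (h2 : (2 : F) ≠ 0) (ρ : G →* Module.End F V)
    (B : LinearMap.BilinForm F V) (hB : B.Nondegenerate)
    (hBinv : ∀ g : G, ∀ x y : V, B (ρ g x) (ρ g y) = B x y) :
    ∃ U W : Submodule F V, IsCompl U W ∧ (∀ g : G, ∀ x ∈ U, ρ g x ∈ U) ∧
      (∀ g : G, ∀ x ∈ W, ρ g x ∈ W) ∧
      (∃ A : LinearMap.BilinForm F V, (∀ x : V, A x x = 0) ∧
        (∀ g : G, ∀ x ∈ U, ∀ y ∈ U, A (ρ g x) (ρ g y) = A x y) ∧
        (∀ x ∈ U, (∀ y ∈ U, A x y = 0) → x = 0)) ∧
      (∃ S : LinearMap.BilinForm F V, (∀ x y : V, S x y = S y x) ∧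
        (∀ g : G, ∀ x ∈ W, ∀ y ∈ W, S (ρ g x) (ρ g y) = S x y) ∧
        (∀ x ∈ W, (∀ y ∈ W, S x y = 0) → x = 0)) := by
  classical
  -- the asymmetry
  let σ : Module.End F V := ((B.flip.toDual hB.flip).symm : Module.Dual F V →ₗ[F] V).comp B
  have P1 : ∀ x y, B y (σ x) = B x y := by
    intro x y
    have h := LinearMap.BilinForm.apply_toDual_symm_apply (B := B.flip) (hB := hB.flip) (B x) y
    exact h
  have hsepR : ∀ a b : V, (∀ y, B y a = B y b) → a = b := by
    intro a b h
    have : a - b = 0 := hB.2 _ (fun y => by rw [map_sub, h y, sub_self])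
    exact sub_eq_zero.mp this
  have P2 : ∀ g x, σ (ρ g x) = ρ g (σ x) := by
    intro g x
    apply hsepR
    intro y
    have e1 : ρ g (ρ g⁻¹ y) = y := by
      rw [← Module.End.mul_apply, inv_right, Module.End.one_apply]
    rw [P1]
    calc B (ρ g x) y = B (ρ g x) (ρ g (ρ g⁻¹ y)) := by rw [e1]
      _ = B x (ρ g⁻¹ y) := hBinv _ _ _
      _ = B (ρ g⁻¹ y) (σ x) := (P1 _ _).symm
      _ = B (ρ g (ρ g⁻¹ y)) (ρ g (σ x)) := (hBinv _ _ _).symm
      _ = B y (ρ g (σ x)) := by rw [e1]
  have P3 : ∀ x y, B (σ x) (σ y) = B x y := by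
    intro x y
    rw [P1, P1]
  have hσinj : Function.Injective σ := by
    intro a b hab
    have : a - b = 0 := hB.1 _ (fun y => by
      rw [map_sub, LinearMap.sub_apply, ← P1 a y, ← P1 b y, hab, sub_self])
    exact sub_eq_zero.mp this
  have hσsurj : Function.Surjective σ := LinearMap.injective_iff_surjective.mp hσinj
  set f : Module.End F V := σ + 1 with hf
  have hfσ : Commute f σ := by
    rw [hf]
    exact (Commute.refl σ).add_left (Commute.one_left σ)
  have hadj : ∀ x y, B (f x) (σ y) = B x (f y) := by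
    intro x y
    simp only [hf, LinearMap.add_apply, Module.End.one_apply, map_add]
    rw [P3, add_comm]
  have hadjk : ∀ (k : ℕ) x y, B ((f ^ k) x) ((σ ^ k) y) = B x ((f ^ k) y) := by
    intro k
    induction k with
    | zero => intro x y; simp
    | succ k ih =>
      intro x y
      rw [pow_succ', pow_succ', Module.End.mul_apply, Module.End.mul_apply, hadj, ← Module.End.mul_apply f,
        (hfσ.pow_right k).eq, Module.End.mul_apply, ih, ← Module.End.mul_apply, ← pow_succ, pow_succ']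
  have hfρ : ∀ g x, f (ρ g x) = ρ g (f x) := by
    intro g x
    simp only [hf, LinearMap.add_apply, Module.End.one_apply, map_add, P2]
  have hfkρ : ∀ (k : ℕ) g x, (f ^ k) (ρ g x) = ρ g ((f ^ k) x) := by
    intro k
    induction k with
    | zero => intro g x; simp
    | succ k ih => intro g x; rw [pow_succ', Module.End.mul_apply, ih, hfρ, Module.End.mul_apply]
  obtain ⟨N, hN, hN1⟩ :=
    ((LinearMap.eventually_isCompl_ker_pow_range_pow f).and (Filter.eventually_ge_atTop 1)).exists
  set U := LinearMap.ker (f ^ N) with hU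
  set W := LinearMap.range (f ^ N) with hW
  have hσk_inj : Function.Injective (σ ^ N) := by
    rw [Module.End.coe_pow]; exact hσinj.iterate _
  have hσk_surj : Function.Surjective (σ ^ N) := by
    rw [Module.End.coe_pow]; exact hσsurj.iterate _
  have hσU : ∀ x ∈ U, σ x ∈ U := by
    intro x hx
    rw [hU, LinearMap.mem_ker] at hx ⊢
    rw [← Module.End.mul_apply, (hfσ.pow_left N).eq, Module.End.mul_apply, hx, map_zero]
  have orth1 : ∀ x ∈ W, ∀ y ∈ U, B x y = 0 := by
    rintro _ ⟨x', rfl⟩ y hy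
    obtain ⟨y', rfl⟩ := hσk_surj y
    have : (f ^ N) y' = 0 := by
      apply hσk_inj
      rw [map_zero, ← Module.End.mul_apply, ← ((hfσ.pow_left N).pow_right N).eq, Module.End.mul_apply]
      exact hy
    rw [hadjk, this, map_zero]
  have orth2 : ∀ x ∈ U, ∀ y ∈ W, B x y = 0 := by
    intro x hx y hy
    rw [← P1]
    exact orth1 y hy _ (hσU x hx)
  have hdecomp : ∀ a : V, ∃ x ∈ U, ∃ y ∈ W, x + y = a := by
    intro a
    have : a ∈ U ⊔ W := by rw [hN.sup_eq_top]; trivial
    exact Submodule.mem_sup.mp this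
  refine ⟨U, W, hN, ?_, ?_, ⟨B - B.flip, ?_, ?_, ?_⟩, ⟨B + B.flip, ?_, ?_, ?_⟩⟩
  · intro g x hx
    rw [hU, LinearMap.mem_ker] at hx ⊢
    rw [hfkρ, hx, map_zero]
  · rintro g _ ⟨x', rfl⟩
    exact ⟨ρ g x', hfkρ N g x'⟩
  · intro x
    simp
  · intro g x _ y _
    simp [hBinv]
  · intro x hx h
    have h1 : σ x - x = 0 := by
      apply hB.2
      intro a
      obtain ⟨a1, ha1, a2, ha2, rfl⟩ := hdecomp a
      have hmem : σ x - x ∈ U := U.sub_mem (hσU x hx) hx
      rw [map_add, LinearMap.add_apply, orth1 a2 ha2 _ hmem, add_zero, map_sub, P1]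
      have := h a1 ha1
      simpa using this
    have h3 : f x = (2 : F) • x := by
      simp only [hf, LinearMap.add_apply, Module.End.one_apply]
      rw [sub_eq_zero.mp h1, two_smul]
    have h4 : ∀ k : ℕ, (f ^ k) x = (2 : F) ^ k • x := by
      intro k
      induction k with
      | zero => simp
      | succ k ih => rw [pow_succ', Module.End.mul_apply, ih, map_smul, h3, smul_smul, pow_succ]
    have h5 : (f ^ N) x = 0 := hx
    rw [h4] at h5
    exact (smul_eq_zero.mp h5).resolve_left (pow_ne_zero _ h2)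
  · intro x y
    simp [add_comm]
  · intro g x _ y _
    simp [hBinv]
  · intro x hx h
    have hfW : f x ∈ W := by
      obtain ⟨x', rfl⟩ := hx
      exact ⟨f x', by rw [← Module.End.mul_apply, ← pow_succ, pow_succ', Module.End.mul_apply]⟩
    have h1 : f x = 0 := by
      apply hB.2
      intro a
      obtain ⟨a1, ha1, a2, ha2, rfl⟩ := hdecomp a
      rw [map_add, LinearMap.add_apply, orth2 a1 ha1 _ hfW, zero_add]
      simp only [hf, LinearMap.add_apply, Module.End.one_apply, map_add]
      rw [P1]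
      have := h a2 ha2
      simpa using this
    have h2' : x ∈ U := by
      rw [hU, LinearMap.mem_ker]
      obtain ⟨k, rfl⟩ : ∃ k, N = k + 1 := ⟨N - 1, by omega⟩
      rw [pow_succ, Module.End.mul_apply, h1, map_zero]
    have : x ∈ U ⊓ W := ⟨h2', hx⟩
    rw [hN.inf_eq_bot] at this
    exact this


/-- restriction to an invariant subspace. -/
def resU (ρ : G →* Module.End F V) (U : Submodule F V) (h : ∀ g, ∀ y ∈ U, ρ g y ∈ U) :
    G →* Module.End F U where
  toFun x := (ρ x).restrict (h x)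
  map_one' := by ext; simp
  map_mul' := by intro a b; ext; simp

theorem resU_apply (ρ : G →* Module.End F V) (U : Submodule F V) (h) (x : G) (y : U) :
    ((resU ρ U h x) y : V) = ρ x y := rfl

theorem proj_spec {p q : Submodule F V} (h : IsCompl p q) {a b : V} (ha : a ∈ p) (hb : b ∈ q) :
    (Submodule.projectionOnto p q h (a + b) : V) = a := by
  rw [map_add, Submodule.projectionOnto_apply_of_mem_right h hb, add_zero]
  exact congrArg Subtype.val (Submodule.projectionOnto_apply_left h ⟨a, ha⟩)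

theorem exists_decomp {p q : Submodule F V} (h : IsCompl p q) (x : V) :
    ∃ a ∈ p, ∃ b ∈ q, a + b = x := by
  have : x ∈ p ⊔ q := by rw [h.sup_eq_top]; trivial
  exact Submodule.mem_sup.mp this

theorem proj_equivariant (ρ : G →* Module.End F V) {p q : Submodule F V} (h : IsCompl p q)
    (hp : ∀ g, ∀ y ∈ p, ρ g y ∈ p) (hq : ∀ g, ∀ y ∈ q, ρ g y ∈ q) (g : G) (x : V) :
    (Submodule.projectionOnto p q h (ρ g x) : V) =
      ρ g (Submodule.projectionOnto p q h x : V) := by
  obtain ⟨a, ha, b, hb, rfl⟩ := exists_decomp h x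
  rw [map_add, proj_spec h (hp g a ha) (hq g b hb), proj_spec h ha hb]

theorem maschke [Finite G] (hG : (Nat.card G : F) ≠ 0) (ρ : G →* Module.End F V)
    (N : Submodule F V) (hN : ∀ g, ∀ y ∈ N, ρ g y ∈ N) :
    ∃ N' : Submodule F V, (∀ g, ∀ y ∈ N', ρ g y ∈ N') ∧ IsCompl N N' := by
  classical
  haveI : Fintype G := Fintype.ofFinite G
  obtain ⟨N₀, hN₀⟩ := Submodule.exists_isCompl N
  let π₀ : Module.End F V := N.subtype.comp (Submodule.projectionOnto N N₀ hN₀)
  have hπ₀mem : ∀ x, π₀ x ∈ N := fun x => (Submodule.projectionOnto N N₀ hN₀ x).2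
  have hπ₀id : ∀ x ∈ N, π₀ x = x := by
    intro x hx
    have := proj_spec hN₀ hx N₀.zero_mem
    rwa [add_zero] at this
  let π : Module.End F V := (Nat.card G : F)⁻¹ • ∑ g : G, ρ g * π₀ * ρ g⁻¹
  have hπapp : ∀ x, π x = (Nat.card G : F)⁻¹ • ∑ g : G, ρ g (π₀ (ρ g⁻¹ x)) := by
    intro x
    simp [π, LinearMap.sum_apply]
  have hπmem : ∀ x, π x ∈ N := by
    intro x
    rw [hπapp]
    exact N.smul_mem _ (N.sum_mem (fun g _ => hN g _ (hπ₀mem _)))
  have hπid : ∀ x ∈ N, π x = x := by
    intro x hx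
    rw [hπapp]
    have : ∀ g : G, ρ g (π₀ (ρ g⁻¹ x)) = x := by
      intro g
      rw [hπ₀id _ (hN g⁻¹ x hx), ← Module.End.mul_apply, inv_right, Module.End.one_apply]
    rw [Finset.sum_congr rfl (fun g _ => this g), Finset.sum_const, Finset.card_univ,
      ← Nat.card_eq_fintype_card, ← Nat.cast_smul_eq_nsmul F, smul_smul, inv_mul_cancel₀ hG, one_smul]
  have hπeq : ∀ h x, π (ρ h x) = ρ h (π x) := by
    intro h x
    rw [hπapp, hπapp, map_smul, map_sum]
    congr 1
    apply Fintype.sum_equiv (Equiv.mulLeft h⁻¹)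
    intro g
    simp only [Equiv.coe_mulLeft]
    rw [← Module.End.mul_apply (ρ h), ← map_mul, ← Module.End.mul_apply (ρ g⁻¹), ← map_mul]
    congr 2
    · group
    · congr 2
      group
  refine ⟨LinearMap.ker π, ?_, ?_, ?_⟩
  · intro g y hy
    rw [LinearMap.mem_ker] at hy ⊢
    rw [hπeq, hy, map_zero]
  · rw [Submodule.disjoint_def]
    intro x hx hx'
    rw [← hπid x hx]
    exact hx'
  · rw [codisjoint_iff, eq_top_iff]
    intro x _
    have : x = π x + (x - π x) := by abel
    rw [this]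
    apply Submodule.add_mem_sup (hπmem x)
    rw [LinearMap.mem_ker, map_sub, hπid _ (hπmem x), sub_self]

theorem split [FiniteDimensional F V] (ρ : G →* Module.End F V) (B : LinearMap.BilinForm F V)
    (hsep : ∀ x, (∀ y, B x y = 0) → x = 0)
    (hinv : ∀ g x y, B (ρ g x) (ρ g y) = B x y)
    (Y : Submodule F V) (hY : ∀ g, ∀ y ∈ Y, ρ g y ∈ Y)
    (hYsep : ∀ x ∈ Y, (∀ y ∈ Y, B x y = 0) → x = 0) :
    ∃ Z : Submodule F V, (∀ g, ∀ y ∈ Z, ρ g y ∈ Z) ∧ IsCompl Y Z ∧
      ∀ x ∈ Z, (∀ y ∈ Z, B x y = 0) → x = 0 := by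
  classical
  let BY : LinearMap.BilinForm F Y := B.restrict Y
  have hBY : BY.Nondegenerate := by
    apply LinearMap.BilinForm.Nondegenerate.ofSeparatingLeft
    intro x hx
    apply Subtype.ext
    exact hYsep x x.2 (fun y hy => hx ⟨y, hy⟩)
  let Z : Submodule F V :=
    { carrier := {z | ∀ y ∈ Y, B y z = 0}
      add_mem' := by
        intro a b ha hb y hy
        rw [map_add, ha y hy, hb y hy, add_zero]
      zero_mem' := by intro y _; simp
      smul_mem' := by
        intro c a ha y hy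
        rw [map_smul, ha y hy, smul_zero] }
  have hZmem : ∀ z, z ∈ Z ↔ ∀ y ∈ Y, B y z = 0 := fun z => Iff.rfl
  have hdis : Disjoint Y Z := by
    rw [Submodule.disjoint_def]
    intro x hx hx'
    have := hBY.2 ⟨x, hx⟩ (fun y => hx' y y.2)
    exact congrArg Subtype.val this
  have hcompl : IsCompl Y Z := by
    refine ⟨hdis, ?_⟩
    rw [codisjoint_iff, eq_top_iff]
    intro x _
    let φ : Module.Dual F Y := (B.flip x).comp Y.subtype
    let y₀ : Y := (BY.flip.toDual hBY.flip).symm φ
    have hy₀ : ∀ y : Y, B y y₀ = B y x := by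
      intro y
      exact LinearMap.BilinForm.apply_toDual_symm_apply (B := BY.flip) (hB := hBY.flip) φ y
    have : x = (y₀ : V) + (x - y₀) := by abel
    rw [this]
    apply Submodule.add_mem_sup y₀.2
    intro y hy
    rw [map_sub, hy₀ ⟨y, hy⟩, sub_self]
  refine ⟨Z, ?_, hcompl, ?_⟩
  · intro g z hz y hy
    have e1 : ρ g (ρ g⁻¹ y) = y := by
      rw [← Module.End.mul_apply, inv_right, Module.End.one_apply]
    rw [← e1, hinv]
    exact hz _ (hY g⁻¹ y hy)
  · intro z hz h
    let ψ : Module.Dual F Y := (B z).comp Y.subtype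
    let y₁ : Y := (BY.toDual hBY).symm ψ
    have hy₁ : ∀ y : Y, B y₁ y = B z y := by
      intro y
      exact LinearMap.BilinForm.apply_toDual_symm_apply (B := BY) (hB := hBY) ψ y
    have h0 : z - y₁ = 0 := by
      apply hsep
      intro x
      obtain ⟨a, ha, b, hb, rfl⟩ := exists_decomp hcompl x
      rw [map_sub, LinearMap.sub_apply, map_add, map_add, hy₁ ⟨a, ha⟩, h b hb, hb _ y₁.2]
      simp
    have hzY : z ∈ Y := by
      rw [sub_eq_zero.mp h0]; exact y₁.2
    have : z ∈ Y ⊓ Z := ⟨hzY, hz⟩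
    rw [hcompl.inf_eq_bot] at this
    exact this

theorem combine (ρ : G →* Module.End F V) (Y Z : Submodule F V) (hYZ : IsCompl Y Z)
    (hY : ∀ g, ∀ y ∈ Y, ρ g y ∈ Y) (hZ : ∀ g, ∀ y ∈ Z, ρ g y ∈ Z)
    (AY : LinearMap.BilinForm F Y) (AZ : LinearMap.BilinForm F Z)
    (hY1 : ∀ x, AY x x = 0) (hZ1 : ∀ x, AZ x x = 0)
    (hY2 : ∀ g x y, AY (resU ρ Y hY g x) (resU ρ Y hY g y) = AY x y)
    (hZ2 : ∀ g x y, AZ (resU ρ Z hZ g x) (resU ρ Z hZ g y) = AZ x y)
    (hY3 : ∀ x, (∀ y, AY x y = 0) → x = 0) (hZ3 : ∀ x, (∀ y, AZ x y = 0) → x = 0) :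
    ∃ A : LinearMap.BilinForm F V, (∀ x, A x x = 0) ∧ (∀ g x y, A (ρ g x) (ρ g y) = A x y) ∧
      ∀ x, (∀ y, A x y = 0) → x = 0 := by
  let πY := Submodule.projectionOnto Y Z hYZ
  let πZ := Submodule.projectionOnto Z Y hYZ.symm
  have hA : ∀ x y, (AY.comp πY πY + AZ.comp πZ πZ) x y = AY (πY x) (πY y) + AZ (πZ x) (πZ y) := by
    intro x y
    simp
  refine ⟨AY.comp πY πY + AZ.comp πZ πZ, ?_, ?_, ?_⟩
  · intro x
    rw [hA, hY1, hZ1, add_zero]
  · intro g x y
    rw [hA, hA]
    have e1 : ∀ x, πY (ρ g x) = resU ρ Y hY g (πY x) := fun x =>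
      Subtype.ext (proj_equivariant ρ hYZ hY hZ g x)
    have e2 : ∀ x, πZ (ρ g x) = resU ρ Z hZ g (πZ x) := fun x =>
      Subtype.ext (proj_equivariant ρ hYZ.symm hZ hY g x)
    rw [e1, e1, e2, e2, hY2, hZ2]
  · intro x h
    have h1 : πY x = 0 := by
      apply hY3
      intro y
      have := h (y : V)
      rw [hA] at this
      have e1 : πY (y : V) = y := Submodule.projectionOnto_apply_left hYZ y
      have e2 : πZ (y : V) = 0 := Submodule.projectionOnto_apply_of_mem_right hYZ.symm y.2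
      rwa [e1, e2, map_zero, add_zero] at this
    have h2 : πZ x = 0 := by
      apply hZ3
      intro y
      have := h (y : V)
      rw [hA] at this
      have e1 : πZ (y : V) = y := Submodule.projectionOnto_apply_left hYZ.symm y
      have e2 : πY (y : V) = 0 := Submodule.projectionOnto_apply_of_mem_right hYZ y.2
      rwa [e1, e2, map_zero, zero_add] at this
    have := Submodule.projection_add_projection_eq_self hYZ x
    rw [← this]
    change ((πY x : V) + (πZ x : V)) = 0
    rw [h1, h2]; simp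


theorem restr_apply (B : LinearMap.BilinForm F V) (U : Submodule F V) (x y : U) :
    B.restrict U x y = B (x : V) (y : V) := rfl

/-- left perp. -/
def perpL (B : LinearMap.BilinForm F V) (T : Submodule F V) : Submodule F V where
  carrier := {x | ∀ y ∈ T, B x y = 0}
  add_mem' := by
    intro a b ha hb y hy
    rw [map_add, LinearMap.add_apply, ha y hy, hb y hy, add_zero]
  zero_mem' := by intro y _; simp
  smul_mem' := by
    intro c a ha y hy
    rw [map_smul, LinearMap.smul_apply, ha y hy, smul_zero]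

/-- right perp. -/
def perpR (B : LinearMap.BilinForm F V) (T : Submodule F V) : Submodule F V where
  carrier := {x | ∀ y ∈ T, B y x = 0}
  add_mem' := by
    intro a b ha hb y hy
    rw [map_add, ha y hy, hb y hy, add_zero]
  zero_mem' := by intro y _; simp
  smul_mem' := by
    intro c a ha y hy
    rw [map_smul, ha y hy, smul_zero]

theorem mem_perpL (B : LinearMap.BilinForm F V) (T : Submodule F V) (x : V) :
    x ∈ perpL B T ↔ ∀ y ∈ T, B x y = 0 := Iff.rfl

theorem mem_perpR (B : LinearMap.BilinForm F V) (T : Submodule F V) (x : V) :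
    x ∈ perpR B T ↔ ∀ y ∈ T, B y x = 0 := Iff.rfl

theorem perpL_inv (ρ : G →* Module.End F V) (B : LinearMap.BilinForm F V)
    (hinv : ∀ g x y, B (ρ g x) (ρ g y) = B x y) (T : Submodule F V)
    (hT : ∀ g, ∀ y ∈ T, ρ g y ∈ T) : ∀ g, ∀ x ∈ perpL B T, ρ g x ∈ perpL B T := by
  intro g x hx y hy
  have e1 : ρ g (ρ g⁻¹ y) = y := by
    rw [← Module.End.mul_apply, inv_right, Module.End.one_apply]
  rw [← e1, hinv]
  exact hx _ (hT g⁻¹ y hy)

theorem perpR_inv (ρ : G →* Module.End F V) (B : LinearMap.BilinForm F V)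
    (hinv : ∀ g x y, B (ρ g x) (ρ g y) = B x y) (T : Submodule F V)
    (hT : ∀ g, ∀ y ∈ T, ρ g y ∈ T) : ∀ g, ∀ x ∈ perpR B T, ρ g x ∈ perpR B T := by
  intro g x hx y hy
  have e1 : ρ g (ρ g⁻¹ y) = y := by
    rw [← Module.End.mul_apply, inv_right, Module.End.one_apply]
  rw [← e1, hinv]
  exact hx _ (hT g⁻¹ y hy)

theorem claim2 [CharP F 2] [Finite G] (hG : (Nat.card G : F) ≠ 0) (d : ℕ) :
    ∀ (X : Type v) [AddCommGroup X] [Module F X] [FiniteDimensional F X] (ρ : G →* Module.End F X)
      (B : LinearMap.BilinForm F X), finrank F X = d →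
      (∀ x, (∀ g, ρ g x = x) → x = 0) → (∀ x, (∀ y, B x y = 0) → x = 0) →
      (∀ g x y, B (ρ g x) (ρ g y) = B x y) →
      ∃ A : LinearMap.BilinForm F X, (∀ x, A x x = 0) ∧ (∀ g x y, A (ρ g x) (ρ g y) = A x y) ∧
        ∀ x, (∀ y, A x y = 0) → x = 0 := by
  induction d using Nat.strong_induction_on with
  | _ d ih =>
  intro X _ _ _ ρ B hd hfix hsep hinv
  have h2F : ∀ a : F, a + a = 0 := CharTwo.add_self_eq_zero
  have h2X : ∀ a : X, a + a = 0 := by
    intro a
    rw [← two_smul F a, CharTwo.two_eq_zero, zero_smul]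
  let C : LinearMap.BilinForm F X := B + B.flip
  have hC : ∀ x y, C x y = B x y + B y x := by
    intro x y; simp [C]
  have hCinv : ∀ g x y, C (ρ g x) (ρ g y) = C x y := by
    intro g x y; rw [hC, hC, hinv, hinv]
  by_cases hR : ∀ x, (∀ y, C x y = 0) → x = 0
  · exact ⟨C, fun x => by rw [hC]; exact h2F _, hCinv, hR⟩
  push Not at hR
  obtain ⟨x₀, hx₀, hx₀ne⟩ := hR
  let 𝒮 : Set (Submodule F X) :=
    {M | (∀ g, ∀ y ∈ M, ρ g y ∈ M) ∧ M ≠ ⊥ ∧ ∀ x ∈ M, ∀ y, C x y = 0}
  have h𝒮 : 𝒮.Nonempty := by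
    refine ⟨perpL C ⊤, perpL_inv ρ C hCinv ⊤ (fun _ _ _ => trivial), ?_, fun x hx y => hx y trivial⟩
    intro h
    apply hx₀ne
    have : x₀ ∈ perpL C ⊤ := fun y _ => hx₀ y
    rw [h, Submodule.mem_bot] at this
    exact this
  obtain ⟨M, ⟨hMinv, hMne, hMrad⟩, hMmin⟩ := IsArtinian.set_has_minimal 𝒮 h𝒮
  have hmin' : ∀ M' : Submodule F X, M' ≤ M → (∀ g, ∀ y ∈ M', ρ g y ∈ M') → M' = ⊥ ∨ M' = M := by
    intro M' hle hinv'
    by_cases hb : M' = ⊥
    · exact Or.inl hb
    · right
      have hmem : M' ∈ 𝒮 := ⟨hinv', hb, fun x hx y => hMrad x (hle hx) y⟩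
      exact eq_of_le_of_not_lt hle (hMmin M' hmem)
  have hsym : ∀ x ∈ M, ∀ y, B x y = B y x := by
    intro x hx y
    have := hMrad x hx y
    rw [hC] at this
    exact CharTwo.add_eq_zero.mp this
  obtain ⟨Y, hYinv, hYne, hYsep, AY, hA1, hA2, hA3⟩ : ∃ Y : Submodule F X,
      ∃ hYinv : (∀ g, ∀ y ∈ Y, ρ g y ∈ Y), Y ≠ ⊥ ∧ (∀ x ∈ Y, (∀ y ∈ Y, B x y = 0) → x = 0) ∧
      ∃ AY : LinearMap.BilinForm F Y, (∀ x, AY x x = 0) ∧
        (∀ g x y, AY (resU ρ Y hYinv g x) (resU ρ Y hYinv g y) = AY x y) ∧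
        ∀ x, (∀ y, AY x y = 0) → x = 0 := by
    by_cases hMM : ∀ x ∈ M, ∀ y ∈ M, B x y = 0
    · -- totally isotropic
      have hN₁inv := perpR_inv ρ B hinv M hMinv
      obtain ⟨M', hM'inv, hNM'⟩ := maschke hG ρ (perpR B M) hN₁inv
      have hMN : M ≤ perpR B M := fun y hy x hx => hMM x hx y hy
      let q' : Module.End F X := M'.subtype.comp (Submodule.projectionOnto M' (perpR B M) hNM'.symm)
      let q : Module.End F X := 1 - q'
      have hq'M' : ∀ x ∈ M', q' x = x := by
        intro x hx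
        have := proj_spec hNM'.symm hx (perpR B M).zero_mem
        rwa [add_zero] at this
      have hq'N : ∀ x ∈ perpR B M, q' x = 0 := by
        intro x hx
        have := proj_spec hNM'.symm M'.zero_mem hx
        rwa [zero_add] at this
      have hq'eq : ∀ g x, q' (ρ g x) = ρ g (q' x) := fun g x =>
        proj_equivariant ρ hNM'.symm hM'inv hN₁inv g x
      have hqeq : ∀ g x, q (ρ g x) = ρ g (q x) := by
        intro g x
        simp only [q, LinearMap.sub_apply, Module.End.one_apply, map_sub, hq'eq]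
      have hq'sum : ∀ m ∈ M, ∀ m' ∈ M', q' (m + m') = m' := by
        intro m hm m' hm'
        rw [map_add, hq'N m (hMN hm), hq'M' m' hm', zero_add]
      have hqsum : ∀ m ∈ M, ∀ m' ∈ M', q (m + m') = m := by
        intro m hm m' hm'
        simp only [q, LinearMap.sub_apply, Module.End.one_apply]
        rw [hq'sum m hm m' hm']; abel
      let A₀ : LinearMap.BilinForm F X := B.comp q q' + (B.comp q q').flip
      have hA₀ : ∀ x y, A₀ x y = B (q x) (q' y) + B (q y) (q' x) := by
        intro x y; simp [A₀]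
      have pa : ∀ m' ∈ M', (∀ m ∈ M, B m m' = 0) → m' = 0 := by
        intro m' hm' h
        have : m' ∈ perpR B M ⊓ M' := ⟨h, hm'⟩
        rw [hNM'.inf_eq_bot] at this
        exact this
      have pb : ∀ m ∈ M, (∀ m' ∈ M', B m m' = 0) → m = 0 := by
        rcases hmin' (M ⊓ perpL B M') inf_le_left (fun g y hy =>
          ⟨hMinv g y hy.1, perpL_inv ρ B hinv M' hM'inv g y hy.2⟩) with h | h
        · intro m hm h'
          have : m ∈ M ⊓ perpL B M' := ⟨hm, h'⟩
          rw [h] at this
          exact this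
        · exfalso
          apply hMne
          rw [eq_bot_iff]
          intro m hm
          rw [Submodule.mem_bot]
          apply hsep
          intro x
          obtain ⟨a, ha, b, hb, rfl⟩ := exists_decomp hNM' x
          have hm2 : m ∈ M ⊓ perpL B M' := by rw [h]; exact hm
          rw [map_add, ha m hm, hm2.2 b hb, add_zero]
      have hYinv : ∀ g, ∀ y ∈ M ⊔ M', ρ g y ∈ M ⊔ M' := by
        intro g y hy
        obtain ⟨m, hm, m', hm', rfl⟩ := Submodule.mem_sup.mp hy
        rw [map_add]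
        exact Submodule.add_mem_sup (hMinv g m hm) (hM'inv g m' hm')
      refine ⟨M ⊔ M', hYinv, ?_, ?_, A₀.restrict (M ⊔ M'), ?_, ?_, ?_⟩
      · intro h
        apply hMne
        rw [eq_bot_iff, ← h]
        exact le_sup_left
      · intro x hx h
        obtain ⟨m, hm, m', hm', rfl⟩ := Submodule.mem_sup.mp hx
        have h1 : m' = 0 := by
          apply pa m' hm'
          intro m₂ hm₂
          have := h m₂ (Submodule.mem_sup_left hm₂)
          rw [map_add, LinearMap.add_apply, hMM m hm m₂ hm₂, zero_add] at this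
          rw [hsym m₂ hm₂, this]
        subst h1
        rw [add_zero]
        apply pb m hm
        intro m₂ hm₂
        have := h m₂ (Submodule.mem_sup_right hm₂)
        rwa [add_zero] at this
      · intro x
        rw [restr_apply, hA₀]
        exact h2F _
      · intro g x y
        rw [restr_apply, restr_apply, resU_apply,
          resU_apply, hA₀, hA₀, hqeq, hqeq, hq'eq, hq'eq, hinv, hinv]
      · rintro ⟨x, hx⟩ h
        apply Subtype.ext
        change x = 0
        obtain ⟨m, hm, m', hm', rfl⟩ := Submodule.mem_sup.mp hx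
        have h1 : m' = 0 := by
          apply pa m' hm'
          intro m₂ hm₂
          have := h ⟨m₂, Submodule.mem_sup_left hm₂⟩
          rw [restr_apply, hA₀] at this
          simp only at this
          have e1 := hq'sum m₂ hm₂ 0 M'.zero_mem
          have e2 := hqsum m₂ hm₂ 0 M'.zero_mem
          rw [add_zero] at e1 e2
          rwa [e1, e2, hq'sum m hm m' hm', map_zero, zero_add] at this
        subst h1
        rw [add_zero]
        apply pb m hm
        intro m₂ hm₂
        have := h ⟨m₂, Submodule.mem_sup_right hm₂⟩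
        rw [restr_apply, hA₀] at this
        simp only at this
        have e1 := hq'sum 0 M.zero_mem m₂ hm₂
        have e2 := hqsum 0 M.zero_mem m₂ hm₂
        rw [zero_add] at e1 e2
        rwa [e1, e2, hqsum m hm 0 M'.zero_mem, map_zero, LinearMap.zero_apply, add_zero] at this
    · -- nondegenerate on `M`
      push Not at hMM
      obtain ⟨a₀, ha₀, b₀, hb₀, hab₀⟩ := hMM
      have hMsep : ∀ x ∈ M, (∀ y ∈ M, B x y = 0) → x = 0 := by
        rcases hmin' (M ⊓ perpL B M) inf_le_left (fun g y hy =>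
          ⟨hMinv g y hy.1, perpL_inv ρ B hinv M hMinv g y hy.2⟩) with h | h
        · intro m hm h'
          have : m ∈ M ⊓ perpL B M := ⟨hm, h'⟩
          rw [h] at this
          exact this
        · exfalso
          apply hab₀
          have : a₀ ∈ M ⊓ perpL B M := by rw [h]; exact ha₀
          exact this.2 b₀ hb₀
      let M₀ : Submodule F X :=
        { carrier := {x | x ∈ M ∧ B x x = 0}
          add_mem' := by
            rintro a b ⟨ha, ha'⟩ ⟨hb, hb'⟩
            refine ⟨M.add_mem ha hb, ?_⟩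
            simp only [map_add, LinearMap.add_apply]
            rw [ha', hb', hsym b hb a, zero_add, add_zero]
            exact h2F _
          zero_mem' := ⟨M.zero_mem, by simp⟩
          smul_mem' := by
            rintro c a ⟨ha, ha'⟩
            refine ⟨M.smul_mem c ha, ?_⟩
            simp only [map_smul, LinearMap.smul_apply]
            rw [ha', smul_zero, smul_zero] }
      have hM₀ : M₀ = M := by
        rcases hmin' M₀ (fun x hx => hx.1) (fun g y hy => ⟨hMinv g y hy.1, by rw [hinv]; exact hy.2⟩)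
          with h | h
        · exfalso
          apply hMne
          rw [eq_bot_iff]
          intro x hx
          rw [Submodule.mem_bot]
          apply hfix
          intro g
          have hmem : ρ g x + x ∈ M₀ := by
            refine ⟨M.add_mem (hMinv g x hx) hx, ?_⟩
            simp only [map_add, LinearMap.add_apply]
            rw [hinv, hsym x hx (ρ g x)]
            have : B x x + B (ρ g x) x + (B (ρ g x) x + B x x) =
                (B x x + B x x) + (B (ρ g x) x + B (ρ g x) x) := by ring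
            rw [this, h2F, h2F, add_zero]
          rw [h, Submodule.mem_bot] at hmem
          calc ρ g x = ρ g x + (x + x) := by rw [h2X, add_zero]
            _ = (ρ g x + x) + x := by abel
            _ = x := by rw [hmem, zero_add]
        · exact h
      refine ⟨M, hMinv, hMne, hMsep, B.restrict M, ?_, ?_, ?_⟩
      · intro x
        have : (x : X) ∈ M₀ := by rw [hM₀]; exact x.2
        exact this.2
      · intro g x y
        rw [restr_apply, restr_apply, resU_apply,
          resU_apply, hinv]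
      · intro x h
        apply Subtype.ext
        exact hMsep x x.2 (fun y hy => h ⟨y, hy⟩)
  obtain ⟨Z, hZinv, hYZ, hZsep⟩ := split ρ B hsep hinv Y hYinv hYsep
  have hdim : finrank F Y + finrank F Z = finrank F X := Submodule.finrank_add_eq_of_isCompl hYZ
  have hYpos : 0 < finrank F Y := by
    haveI : Nontrivial Y := (Submodule.nontrivial_iff_ne_bot).mpr hYne
    exact Module.finrank_pos
  obtain ⟨AZ, hZ1, hZ2, hZ3⟩ := ih (finrank F Z) (by omega) Z (resU ρ Z hZinv) (B.restrict Z) rfl
    (by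
      intro x hx
      apply Subtype.ext
      exact hfix x (fun g => congrArg Subtype.val (hx g)))
    (by
      intro x hx
      apply Subtype.ext
      exact hZsep x x.2 (fun y hy => hx ⟨y, hy⟩))
    (by
      intro g x y
      rw [restr_apply, restr_apply, resU_apply,
        resU_apply, hinv])
  exact combine ρ Y Z hYZ hYinv hZinv AY AZ hA1 hZ1 hA2 hZ2 hA3 hZ3


theorem even_case [CharP F 2] [Finite G] [FiniteDimensional F V] (hG : (Nat.card G : F) ≠ 0)
    (ρ : G →* Module.End F V) (B : LinearMap.BilinForm F V) (hB : B.Nondegenerate)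
    (hBinv : ∀ g : G, ∀ x y : V, B (ρ g x) (ρ g y) = B x y) :
    ∃ U W : Submodule F V, IsCompl U W ∧ (∀ g : G, ∀ x ∈ U, ρ g x ∈ U) ∧
      (∀ g : G, ∀ x ∈ W, ρ g x ∈ W) ∧
      (∃ A : LinearMap.BilinForm F V, (∀ x : V, A x x = 0) ∧
        (∀ g : G, ∀ x ∈ U, ∀ y ∈ U, A (ρ g x) (ρ g y) = A x y) ∧
        (∀ x ∈ U, (∀ y ∈ U, A x y = 0) → x = 0)) ∧
      (∃ S : LinearMap.BilinForm F V, (∀ x y : V, S x y = S y x) ∧
        (∀ g : G, ∀ x ∈ W, ∀ y ∈ W, S (ρ g x) (ρ g y) = S x y) ∧
        (∀ x ∈ W, (∀ y ∈ W, S x y = 0) → x = 0)) ∧ ∀ g : G, ∀ x ∈ W, ρ g x = x := by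
  classical
  haveI : Fintype G := Fintype.ofFinite G
  let e : Module.End F V := (Nat.card G : F)⁻¹ • ∑ g : G, ρ g
  have happ : ∀ x, e x = (Nat.card G : F)⁻¹ • ∑ g : G, ρ g x := by
    intro x
    simp [e, LinearMap.sum_apply]
  have he_fix : ∀ h x, ρ h (e x) = e x := by
    intro h x
    rw [happ, map_smul, map_sum]
    congr 1
    apply Fintype.sum_equiv (Equiv.mulLeft h)
    intro g
    rw [Equiv.coe_mulLeft, map_mul, Module.End.mul_apply]
  have he_inv : ∀ h x, e (ρ h x) = e x := by
    intro h x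
    rw [happ, happ]
    congr 1
    apply Fintype.sum_equiv (Equiv.mulRight h)
    intro g
    rw [Equiv.coe_mulRight, map_mul, Module.End.mul_apply]
  have he_id : ∀ x, (∀ g, ρ g x = x) → e x = x := by
    intro x hx
    rw [happ, Finset.sum_congr rfl (fun g _ => hx g), Finset.sum_const, Finset.card_univ,
      ← Nat.card_eq_fintype_card, ← Nat.cast_smul_eq_nsmul F, smul_smul, inv_mul_cancel₀ hG, one_smul]
  have hmove : ∀ g x y, B (ρ g x) y = B x (ρ g⁻¹ y) := by
    intro g x y
    have e1 : ρ g (ρ g⁻¹ y) = y := by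
      rw [← Module.End.mul_apply, inv_right, Module.End.one_apply]
    conv_lhs => rw [← e1]
    rw [hBinv]
  have hadj : ∀ x y, B (e x) y = B x (e y) := by
    intro x y
    rw [happ, happ, map_smul, LinearMap.smul_apply, map_smul, map_sum, map_sum, LinearMap.sum_apply]
    congr 1
    apply Fintype.sum_equiv (Equiv.inv G)
    intro g
    rw [hmove]; rfl
  let W : Submodule F V :=
    { carrier := {x | ∀ g, ρ g x = x}
      add_mem' := by
        intro a b ha hb g
        rw [map_add, ha g, hb g]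
      zero_mem' := by intro g; simp
      smul_mem' := by
        intro c a ha g
        rw [map_smul, ha g] }
  have hWmem : ∀ x, x ∈ W ↔ ∀ g, ρ g x = x := fun x => Iff.rfl
  set U : Submodule F V := LinearMap.ker e with hU
  have hUW : IsCompl U W := by
    constructor
    · rw [Submodule.disjoint_def]
      intro x hx hx'
      rw [← he_id x hx']
      exact hx
    · rw [codisjoint_iff, eq_top_iff]
      intro x _
      have : x = (x - e x) + e x := by abel
      rw [this]
      apply Submodule.add_mem_sup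
      · rw [hU, LinearMap.mem_ker, map_sub, he_id (e x) (fun g => he_fix g x), sub_self]
      · exact fun g => he_fix g x
  have hUinv : ∀ g, ∀ x ∈ U, ρ g x ∈ U := by
    intro g x hx
    rw [hU, LinearMap.mem_ker] at hx ⊢
    rw [he_inv, hx]
  have hUsep : ∀ x ∈ U, (∀ y ∈ U, B x y = 0) → x = 0 := by
    intro x hx h
    apply hB.1
    intro y
    obtain ⟨a, ha, b, hb, rfl⟩ := exists_decomp hUW y
    rw [map_add, h a ha, zero_add, ← he_id b hb, ← hadj]
    have : e x = 0 := hx
    rw [this]; simp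
  obtain ⟨AU, h1, h2, h3⟩ := claim2 hG _ U (resU ρ U hUinv) (B.restrict U) rfl
    (by
      intro x hx
      have h4 : (x : V) ∈ U ⊓ W := ⟨x.2, fun g => congrArg Subtype.val (hx g)⟩
      rw [hUW.inf_eq_bot] at h4
      exact Subtype.ext h4)
    (by
      intro x hx
      apply Subtype.ext
      exact hUsep x x.2 (fun y hy => hx ⟨y, hy⟩))
    (by
      intro g x y
      rw [restr_apply, restr_apply, resU_apply, resU_apply, hBinv])
  let πU := Submodule.projectionOnto U W hUW
  let πW := Submodule.projectionOnto W U hUW.symm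
  have hπU : ∀ x (hx : x ∈ U), πU x = ⟨x, hx⟩ := fun x hx =>
    Submodule.projectionOnto_apply_left hUW ⟨x, hx⟩
  have hπW : ∀ x (hx : x ∈ W), πW x = ⟨x, hx⟩ := fun x hx =>
    Submodule.projectionOnto_apply_left hUW.symm ⟨x, hx⟩
  let b := Module.finBasis F W
  let φ : Fin (finrank F W) → (V →ₗ[F] F) := fun i => (b.coord i).comp πW
  let S : LinearMap.BilinForm F V := ∑ i, LinearMap.BilinForm.linMulLin (φ i) (φ i)
  have hS : ∀ x y, S x y = ∑ i, φ i x * φ i y := by
    intro x y
    simp [S, LinearMap.sum_apply]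
  refine ⟨U, W, hUW, hUinv, fun g x hx => by rw [hx g]; exact hx, ⟨AU.comp πU πU, ?_, ?_, ?_⟩,
    ⟨S, ?_, ?_, ?_⟩, fun g x hx => hx g⟩
  · intro x
    simp [h1]
  · intro g x hx y hy
    simp only [LinearMap.BilinForm.comp_apply]
    rw [hπU _ (hUinv g x hx), hπU _ (hUinv g y hy), hπU x hx, hπU y hy]
    exact h2 g ⟨x, hx⟩ ⟨y, hy⟩
  · intro x hx h
    have := h3 ⟨x, hx⟩ (by
      intro y
      have h5 := h y y.2
      simp only [LinearMap.BilinForm.comp_apply] at h5
      rwa [hπU x hx, hπU y y.2] at h5)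
    exact congrArg Subtype.val this
  · intro x y
    rw [hS, hS]
    exact Finset.sum_congr rfl (fun i _ => mul_comm _ _)
  · intro g x hx y hy
    rw [hx g, hy g]
  · intro x hx h
    have h5 : ∀ j, b.repr ⟨x, hx⟩ j = 0 := by
      intro j
      have h6 := h (b j) (b j).2
      rw [hS] at h6
      have h7 : ∀ i, φ i (b j : V) = if i = j then 1 else 0 := by
        intro i
        simp only [φ, LinearMap.comp_apply]
        rw [hπW _ (b j).2]
        simp only [Subtype.coe_eta, Module.Basis.coord_apply, Module.Basis.repr_self]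
        rw [Finsupp.single_apply]
        simp [eq_comm]
      simp only [h7, mul_ite, mul_one, mul_zero, Finset.sum_ite_eq', Finset.mem_univ, if_true] at h6
      simp only [φ, LinearMap.comp_apply] at h6
      rw [hπW x hx] at h6
      exact h6
    have h8 : (⟨x, hx⟩ : W) = 0 := by
      apply b.repr.injective
      ext j
      rw [h5 j]; simp
    exact congrArg Subtype.val h8

theorem main [Finite G] [FiniteDimensional F V] (p : ℕ) [hp : Fact p.Prime] [CharP F p]
    (hcop : ¬ p ∣ Nat.card G) (ρ : G →* Module.End F V) (B : LinearMap.BilinForm F V)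
    (hB : B.Nondegenerate) (hBinv : ∀ g : G, ∀ x y : V, B (ρ g x) (ρ g y) = B x y) :
    ∃ U W : Submodule F V, IsCompl U W ∧ (∀ g : G, ∀ x ∈ U, ρ g x ∈ U) ∧
      (∀ g : G, ∀ x ∈ W, ρ g x ∈ W) ∧
      (∃ A : LinearMap.BilinForm F V, (∀ x : V, A x x = 0) ∧
        (∀ g : G, ∀ x ∈ U, ∀ y ∈ U, A (ρ g x) (ρ g y) = A x y) ∧
        (∀ x ∈ U, (∀ y ∈ U, A x y = 0) → x = 0)) ∧
      (∃ S : LinearMap.BilinForm F V, (∀ x y : V, S x y = S y x) ∧
        (∀ g : G, ∀ x ∈ W, ∀ y ∈ W, S (ρ g x) (ρ g y) = S x y) ∧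
        (∀ x ∈ W, (∀ y ∈ W, S x y = 0) → x = 0)) ∧ (p = 2 → ∀ g : G, ∀ x ∈ W, ρ g x = x) := by
  by_cases h2 : p = 2
  · subst h2
    have hG : (Nat.card G : F) ≠ 0 := by
      intro h
      exact hcop ((CharP.cast_eq_zero_iff F 2 _).mp h)
    obtain ⟨U, W, a1, a2, a3, a4, a5, a6⟩ := even_case hG ρ B hB hBinv
    exact ⟨U, W, a1, a2, a3, a4, a5, fun _ => a6⟩
  · have h2F : (2 : F) ≠ 0 := by
      intro h
      apply h2
      have h3 : ((2 : ℕ) : F) = 0 := by exact_mod_cast h
      exact (Nat.prime_dvd_prime_iff_eq hp.out Nat.prime_two).mp ((CharP.cast_eq_zero_iff F p _).mp h3)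
    obtain ⟨U, W, a1, a2, a3, a4, a5⟩ := odd_case h2F ρ B hB hBinv
    exact ⟨U, W, a1, a2, a3, a4, a5, fun h => absurd h h2⟩

end Cfsg.Agent.Lib.Helper79.SDS
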