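import Cfsg.Agent.Lib.Helper79.ExtCyclic
import Cfsg.Agent.Lib.Helper79.Central
import Cfsg.Agent.Lib.Helper82.Basic

set_option autoImplicit false

namespace Cfsg.Agent.Lib.Helper79

open Cfsg Cfsg.Agent.Lib.Helper82

/-- Irreducible representations with equal characters are equivalent. -/
theorem nonempty_equiv_of_character_eq {G V W : Type*} [Group G] [Finite G]
    [AddCommGroup V] [Module ℂ V] [FiniteDimensional ℂ V]
    [AddCommGroup W] [Module ℂ W] [FiniteDimensional ℂ W]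
    (ρ : Representation ℂ G V) (σ : Representation ℂ G W) [ρ.IsIrreducible] [σ.IsIrreducible]
    (h : ρ.character = σ.character) : Nonempty (Representation.Equiv σ ρ) := by
  classical
  have := Fintype.ofFinite G
  have : Invertible (Nat.card G : ℂ) := invertibleOfNonzero (by exact_mod_cast Nat.card_pos.ne')
  have h1 := Representation.char_orthonormal ρ σ
  have h2 := Representation.char_orthonormal σ σ
  rw [h] at h1
  rw [h1] at h2
  rw [if_pos (⟨Representation.Equiv.refl σ⟩ : Nonempty (Representation.Equiv σ σ))] at h2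
  by_contra hne
  rw [if_neg hne] at h2
  simp at h2

/-- A representation whose restriction to a subgroup is irreducible is irreducible. -/
theorem isIrreducible_of_restrict {G V : Type*} [Group G] [AddCommGroup V] [Module ℂ V]
    (N : Subgroup G) (ρ : Representation ℂ N V) (σ : Representation ℂ G V)
    (h : ∀ n : N, σ n = ρ n) (hρ : ρ.IsIrreducible) : σ.IsIrreducible := by
  have hnt : Nontrivial (Subrepresentation σ) := by
    refine ⟨⊥, ⊤, ?_⟩
    intro hbt
    have h1 : (⊥ : Subrepresentation ρ) ≠ ⊤ := bot_ne_top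
    apply h1
    apply Subrepresentation.toSubmodule_injective
    have := congrArg Subrepresentation.toSubmodule hbt
    exact this
  refine { toNontrivial := hnt, eq_bot_or_eq_top := ?_ }
  intro τ
  let τ' : Subrepresentation ρ := ⟨τ.toSubmodule, fun n v hv => by
    have := τ.apply_mem_toSubmodule (n : G) hv
    rwa [h] at this⟩
  rcases hρ.eq_bot_or_eq_top τ' with h1 | h1
  · left
    apply Subrepresentation.toSubmodule_injective
    have := congrArg Subrepresentation.toSubmodule h1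
    exact this
  · right
    apply Subrepresentation.toSubmodule_injective
    have := congrArg Subrepresentation.toSubmodule h1
    exact this

/-- An invariant irreducible character of a normal subgroup with cyclic quotient extends. -/
theorem exists_irr_ext_of_cyclic {G : Type*} [Group G] [Finite G] (N : Subgroup G)
    [hN : N.Normal] (hcyc : IsCyclic (G ⧸ N)) (ϑ : N → ℂ) (hϑ : IsIrrCharacter N ϑ)
    (hinv : ∀ (g : G) (n : N), ϑ ⟨g * n * g⁻¹, hN.conj_mem (n : G) n.2 g⟩ = ϑ n) :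
    ∃ χ : G → ℂ, IsIrrCharacter G χ ∧ ∀ n : N, χ n = ϑ n := by
  obtain ⟨d, ρ, hρ, rfl⟩ := hϑ
  obtain ⟨q0, hq0⟩ := hcyc.exists_generator
  obtain ⟨g0, rfl⟩ := QuotientGroup.mk_surjective q0
  have hgen : ∀ g : G, ∃ i : ℤ, g0 ^ (-i) * g ∈ N := by
    intro g
    obtain ⟨i, hi⟩ := Subgroup.mem_zpowers_iff.mp (hq0 (g : G ⧸ N))
    refine ⟨i, ?_⟩
    rw [zpow_neg, ← QuotientGroup.eq]
    exact_mod_cast hi
  let c : N →* N := (MulAut.conjNormal g0 : MulAut N).toMonoidHom
  have hcs : Function.Surjective c := (MulAut.conjNormal g0 : MulAut N).surjective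
  have hρ' : (repComp ρ c).IsIrreducible := (isIrreducible_comp_iff c hcs ρ).2 hρ
  have hchar : (repComp ρ c).character = ρ.character := by
    funext n
    exact hinv g0 n
  obtain ⟨φ⟩ := nonempty_equiv_of_character_eq (repComp ρ c) ρ hchar
  -- `φ : Equiv ρ (repComp ρ c)`
  let r : N →* (Module.End ℂ (Fin d → ℂ))ˣ := MonoidHom.toHomUnits ρ
  have hr : ∀ n, ((r n : (Module.End ℂ (Fin d → ℂ))ˣ) : Module.End ℂ (Fin d → ℂ)) = ρ n :=
    fun n => rfl
  obtain ⟨e, he⟩ : ∃ e : (Fin d → ℂ) ≃ₗ[ℂ] (Fin d → ℂ),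
      ∀ n, e.toLinearMap ∘ₗ ρ n = ρ (c n) ∘ₗ e.toLinearMap :=
    ⟨φ.toLinearEquiv, fun n => φ.toIntertwiningMap.isIntertwining' n⟩
  let T : (Module.End ℂ (Fin d → ℂ))ˣ :=
    ⟨e.toLinearMap, e.symm.toLinearMap,
      by apply LinearMap.ext; intro v; simp, by apply LinearMap.ext; intro v; simp⟩
  have hT : ∀ n, T * r n = r (c n) * T := by
    intro n
    apply Units.ext
    exact he n
  -- powers
  have hTpow : ∀ (j : ℕ) (n : N), T ^ j * r n = r ((MulAut.conjNormal (g0 ^ j) : MulAut N) n) * T ^ j := by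
    intro j
    induction j with
    | zero => intro n; simp
    | succ j ih =>
      intro n
      rw [pow_succ, mul_assoc, hT, ← mul_assoc, ih, mul_assoc]
      congr 2
      rw [pow_succ, map_mul]
      rfl
  set m := orderOf (g0 : G ⧸ N) with hm
  have hmpos : 0 < m := orderOf_pos _
  have hz0 : g0 ^ m ∈ N := by
    rw [← QuotientGroup.eq_one_iff, QuotientGroup.mk_pow, hm, pow_orderOf_eq_one]
  set z0 : N := ⟨g0 ^ m, hz0⟩ with hz0def
  have hconj : ∀ n : N, (MulAut.conjNormal (g0 ^ m) : MulAut N) n = z0 * n * z0⁻¹ := by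
    intro n
    apply Subtype.ext
    rw [MulAut.conjNormal_apply]
    rfl
  let S : (Module.End ℂ (Fin d → ℂ))ˣ := (r z0)⁻¹ * T ^ m
  have hS : ∀ n, S * r n = r n * S := by
    intro n
    show (r z0)⁻¹ * T ^ m * r n = r n * ((r z0)⁻¹ * T ^ m)
    rw [mul_assoc, hTpow, hconj, map_mul, map_mul, map_inv]
    group
  obtain ⟨cst, hcst⟩ := schur_scalar ρ (S : Module.End ℂ (Fin d → ℂ)) (by
    intro n
    have := congrArg Units.val (hS n)
    exact this)
  have hnt : Nontrivial (Fin d → ℂ) := by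
    have := IsIrreducible.finrank_pos ρ
    exact Module.finrank_pos_iff.mp this
  have hcst0 : cst ≠ 0 := by
    rintro rfl
    rw [zero_smul] at hcst
    exact S.ne_zero hcst
  obtain ⟨b, hb⟩ := IsAlgClosed.exists_pow_nat_eq cst hmpos
  have hb0 : b ≠ 0 := by
    rintro rfl
    rw [zero_pow hmpos.ne'] at hb
    exact hcst0 hb.symm
  let B : (Module.End ℂ (Fin d → ℂ))ˣ :=
    Units.map (algebraMap ℂ (Module.End ℂ (Fin d → ℂ))).toMonoidHom (Units.mk0 b hb0)
  have hBc : ∀ x : (Module.End ℂ (Fin d → ℂ))ˣ, B * x = x * B := by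
    intro x
    apply Units.ext
    exact Algebra.commutes b (x : Module.End ℂ (Fin d → ℂ))
  have hBm : B ^ m = S := by
    apply Units.ext
    rw [hcst, Units.val_pow_eq_pow_val]
    show (algebraMap ℂ (Module.End ℂ (Fin d → ℂ)) b) ^ m = _
    rw [← map_pow, hb, Algebra.algebraMap_eq_smul_one]
    rfl
  have hBi : ∀ x : (Module.End ℂ (Fin d → ℂ))ˣ, B⁻¹ * x = x * B⁻¹ := by
    intro x
    have := hBc x
    rw [inv_mul_eq_iff_eq_mul, ← mul_assoc, this, mul_assoc, mul_inv_cancel, mul_one]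
  let t : (Module.End ℂ (Fin d → ℂ))ˣ := T * B⁻¹
  have ht1 : ∀ n : N, t * r n * t⁻¹ = r ⟨g0 * n * g0⁻¹, hN.conj_mem n n.2 g0⟩ := by
    intro n
    show T * B⁻¹ * r n * (T * B⁻¹)⁻¹ = r (c n)
    rw [mul_assoc T, hBi, ← mul_assoc, hT]
    group
  have htm : t ^ m = r z0 := by
    show (T * B⁻¹) ^ m = r z0
    have hcomm : Commute T B⁻¹ := (hBi T).symm
    rw [hcomm.mul_pow, inv_pow, hBm]
    show T ^ m * ((r z0)⁻¹ * T ^ m)⁻¹ = r z0
    group
  have ht2 : ∀ (k : ℤ) (hk : g0 ^ k ∈ N), t ^ k = r ⟨g0 ^ k, hk⟩ := by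
    intro k hk
    have hdvd : (m : ℤ) ∣ k := by
      rw [hm, orderOf_dvd_iff_zpow_eq_one, ← QuotientGroup.mk_zpow, QuotientGroup.eq_one_iff]
      exact hk
    obtain ⟨l, rfl⟩ := hdvd
    rw [zpow_mul, zpow_natCast, htm, ← map_zpow]
    congr 1
    apply Subtype.ext
    rw [Subgroup.coe_zpow]
    show (g0 ^ m) ^ l = g0 ^ ((m : ℤ) * l)
    rw [zpow_mul, zpow_natCast]
  obtain ⟨R, hR, -⟩ := exists_hom_ext_cyclic N g0 hgen r t ht1 ht2
  let σ : Representation ℂ G (Fin d → ℂ) := (Units.coeHom _).comp R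
  have hσ : ∀ n : N, σ n = ρ n := by
    intro n
    show ((R n : (Module.End ℂ (Fin d → ℂ))ˣ) : Module.End ℂ (Fin d → ℂ)) = ρ n
    rw [hR]
    rfl
  refine ⟨σ.character, ⟨d, σ, isIrreducible_of_restrict N ρ σ hσ hρ, rfl⟩, ?_⟩
  intro n
  show LinearMap.trace ℂ _ (σ n) = LinearMap.trace ℂ _ (ρ n)
  rw [hσ]

end Cfsg.Agent.Lib.Helper79
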