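import Cfsg.Agent.Lib.Helper79.LinTwist
import Cfsg.Agent.Lib.Helper79.FullyRamified2
import Cfsg.Agent.Lib.Helper82.CharKer

set_option autoImplicit false

namespace Cfsg.Agent.Lib.Helper79

open Cfsg ComplexConjugate Cfsg.Agent.Lib.Helper19 Cfsg.Agent.Lib.Helper20 Cfsg.Agent.Lib.Helper82

/-- If `τ` and `τ_N` are irreducible, the coset averages of `|τ|²` are all `1`. -/
theorem navg_mul_conj_eq_one {G : Type*} [Group G] [Fintype G] (N : Subgroup G) [N.Normal]
    [Fintype N] {τ : G → ℂ} (hτ : IsIrrCharacter G τ)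
    (hτN : IsIrrCharacter N (fun n : N => τ n)) :
    navg N (fun g => τ g * conj (τ g)) = fun _ => 1 := by
  have hτc := isCharacter_of_isIrrCharacter hτ
  have hΦ : IsCharacter G (fun g => τ g * conj (τ g)) := isCharacter_mul hτc (isCharacter_conj hτc)
  have hA := navg_isCharacter N hΦ
  have h1 : navg N (fun g => τ g * conj (τ g)) 1 = 1 := by
    rw [navg_mul_conj_one, classInner_irr_self hτN]
  have hone : IsIrrCharacter G (fun _ => (1 : ℂ)) := isChar_linear_isIrr isCharacter_one rfl
  have h2 : classInner (navg N (fun g => τ g * conj (τ g))) (fun _ => (1 : ℂ)) = 1 := by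
    rw [classInner_navg_left N _ _ (fun _ _ => rfl)]
    refine Eq.trans ?_ (classInner_irr_self hτ)
    unfold classInner
    simp
  obtain ⟨Δ, hΔ, e⟩ := Cfsg.Agent.Lib.Helper5.exists_add_of_constituent hA hone
    (by rw [h2]; exact one_ne_zero)
  have hΔ1 : Δ 1 = 0 := by
    have := congrFun e 1
    rw [h1] at this
    simp only [Pi.add_apply] at this
    linear_combination -this
  rw [e, IsCharacter.eq_zero_of_one_eq_zero hΔ hΔ1, add_zero]

/-- **Irreducibility of a product.**  `τ, τ_N` irreducible, `β` irreducible with `|β|` constant on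
the cosets of `N`: then `τ β` is irreducible. -/
theorem isIrr_mul_of_restrict_irr {G : Type*} [Group G] [Fintype G] (N : Subgroup G) [N.Normal]
    [Fintype N] {τ β : G → ℂ} (hτ : IsIrrCharacter G τ)
    (hτN : IsIrrCharacter N (fun n : N => τ n)) (hβ : IsIrrCharacter G β)
    (hβN : ∀ (n : N) (g : G), β (n * g) * conj (β (n * g)) = β g * conj (β g)) :
    IsIrrCharacter G (τ * β) := by
  rw [isIrrCharacter_iff]
  refine ⟨isCharacter_mul (isCharacter_of_isIrrCharacter hτ) (isCharacter_of_isIrrCharacter hβ), ?_⟩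
  have e1 : classInner (τ * β) (τ * β) =
      classInner (fun g => τ g * conj (τ g)) (fun g => β g * conj (β g)) := by
    unfold classInner
    congr 1
    apply Finset.sum_congr rfl
    intro g _
    simp only [Pi.mul_apply, map_mul, Complex.conj_conj]
    ring
  rw [e1, ← classInner_navg_left N _ _ hβN, navg_mul_conj_eq_one N hτ hτN]
  refine Eq.trans ?_ (classInner_irr_self hβ)
  unfold classInner
  congr 1
  apply Finset.sum_congr rfl
  intro g _
  simp only [map_mul, Complex.conj_conj]
  ring

/-- An irreducible character over an invariant linear character `μ` of `N` satisfies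
`β (n g) = μ n β g`. -/
theorem mul_left_of_over_linear {G : Type*} [Group G] [Fintype G] (N : Subgroup G)
    [hN : N.Normal] [Fintype N] (μ : N →* ℂˣ)
    (hinv : ∀ (g : G) (n : N), μ ⟨g * n * g⁻¹, hN.conj_mem (n : G) n.2 g⟩ = μ n)
    {β : G → ℂ} (hβ : IsIrrCharacter G β)
    (hover : classInner (fun n : N => β n) (homFun μ) ≠ 0) (n : N) (g : G) :
    β (n * g) = (μ n : ℂ) * β g := by
  have hμ : IsIrrCharacter N (homFun μ) :=
    isChar_linear_isIrr (isCharacter_homFun μ).1 (isCharacter_homFun μ).2
  obtain ⟨e, he, h1, -⟩ := restrict_eq_smul_of_invariant N hβ hμ hover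
    (fun g n => by simp only [homFun_apply, hinv g n])
  obtain ⟨k, ρ, hρ, rfl⟩ := hβ
  have hk : (e : ℂ) = k := by
    have := congrFun h1 1
    simp only [Pi.smul_apply, homFun_apply, map_one, Units.val_one, smul_eq_mul, mul_one,
      Subgroup.coe_one, Representation.char_one, Module.finrank_fin_fun] at this
    exact this.symm
  have h2 := scalar_of_character_eq ρ N μ (fun x => by
    have := congrFun h1 x
    simp only [Pi.smul_apply, homFun_apply, smul_eq_mul] at this
    rw [this, hk]) n
  simp only [Representation.character, map_mul, h2]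
  rw [Module.End.mul_eq_comp, LinearMap.smul_comp, LinearMap.id_comp, map_smul, smul_eq_mul]

/-- Deflation along a surjective homomorphism. -/
theorem isIrr_deflate_surj {X Y : Type*} [Group X] [Group Y] [Finite X] (f : X →* Y)
    (hf : Function.Surjective f) {Ψ : X → ℂ} (hΨ : IsIrrCharacter X Ψ)
    (hker : ∀ x, f x = 1 → Ψ x = Ψ 1) :
    ∃ χ : Y → ℂ, IsIrrCharacter Y χ ∧ ∀ x, χ (f x) = Ψ x := by
  obtain ⟨ψ, hψ, h⟩ := isIrr_deflate hΨ f.ker (fun x hx => hker x hx)
  let e := QuotientGroup.quotientKerEquivOfSurjective f hf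
  refine ⟨ψ ∘ e.symm, isIrr_comp_surj hψ e.symm.toMonoidHom e.symm.surjective, ?_⟩
  intro x
  have : e.symm (f x) = (x : X ⧸ f.ker) := by
    rw [MulEquiv.symm_apply_eq]
    rfl
  show ψ (e.symm (f x)) = Ψ x
  rw [this, h]

end Cfsg.Agent.Lib.Helper79
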