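import Cfsg.Agent.Lib.Helper79.InvAboveSolv
import Cfsg.Agent.Lib.Helper79.IrrMul
import Cfsg.Agent.S4449

set_option autoImplicit false

namespace Cfsg.Agent.Lib.Helper79

open Cfsg ComplexConjugate Cfsg.Agent.Lib.Helper19 Cfsg.Agent.Lib.Helper20 Cfsg.Agent.Lib.Helper82

/-- Summation along a surjective homomorphism. -/
theorem sum_comp_surj {X Y : Type*} [Group X] [Group Y] [Fintype X] [Fintype Y] (f : X →* Y)
    (hf : Function.Surjective f) (F : Y → ℂ) :
    ∑ x, F (f x) = (Nat.card f.ker : ℂ) * ∑ y, F y := by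
  classical
  have hc : ∀ y : Y, (Finset.univ.filter (fun x => f x = y)).card = Nat.card f.ker := by
    intro y
    rw [MonoidHom.card_fiber_eq_of_mem_range f (hf y) (hf 1), Nat.card_eq_fintype_card,
      Fintype.card_subtype]
    congr 1
    ext x
    simp [MonoidHom.mem_ker]
  calc ∑ x, F (f x) = ∑ y, ∑ x with f x = y, F (f x) :=
        (Finset.sum_fiberwise Finset.univ f (fun x => F (f x))).symm
    _ = ∑ y, (Nat.card f.ker : ℂ) * F y := by
        apply Finset.sum_congr rfl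
        intro y _
        rw [Finset.sum_congr rfl (g := fun _ => F y)
          (fun x hx => by rw [(Finset.mem_filter.1 hx).2]), Finset.sum_const, hc, nsmul_eq_mul]
    _ = _ := by rw [Finset.mul_sum]

/-- Inner products are preserved by inflation. -/
theorem classInner_comp_surj {X Y : Type*} [Group X] [Group Y] [Fintype X] [Fintype Y]
    (f : X →* Y) (hf : Function.Surjective f) (a b : Y → ℂ) :
    classInner (fun x => a (f x)) (fun x => b (f x)) = classInner a b := by
  unfold classInner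
  rw [sum_comp_surj f hf (fun y => a y * conj (b y))]
  have h1 : Nat.card X = Nat.card f.ker * Nat.card Y := by
    rw [← Subgroup.card_mul_index f.ker, Subgroup.index_ker, 
      MonoidHom.range_eq_top.2 hf, Subgroup.card_top]
  have h2 : (Nat.card f.ker : ℂ) ≠ 0 := card_ne_zero_complex'
  have h3 : (Nat.card Y : ℂ) ≠ 0 := card_ne_zero_complex'
  rw [h1]
  push_cast
  field_simp

/-- A quotient through which a homomorphism to a solvable group factors "backwards". -/
theorem isSolvable_quotient_of_ker_le {X Q : Type*} [Group X] [Group Q] [Group.IsSolvable Q]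
    (H : Subgroup X) [H.Normal] (φ : X →* Q) (h : φ.ker ≤ H) : Group.IsSolvable (X ⧸ H) := by
  have h1 : Group.IsSolvable (X ⧸ φ.ker) :=
    Group.isSolvable_of_isSolvable_injective (QuotientGroup.kerLift_injective φ)
  refine Group.isSolvable_of_surjective (f := QuotientGroup.map φ.ker H (MonoidHom.id X) h) ?_
  intro y
  obtain ⟨x, rfl⟩ := QuotientGroup.mk_surjective y
  exact ⟨(x : X ⧸ φ.ker), rfl⟩

section amb

variable {Γ : Type*} [Group Γ]

theorem conjInv_top_of_prod {G S : Subgroup Γ} (hGS : ∀ x : Γ, ∃ g ∈ G, ∃ s ∈ S, x = g * s)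
    {χ : G → ℂ} (hχ : IsCharacter G χ) (h : ConjInv S G χ) : ConjInv ⊤ G χ := by
  intro x _ g₀ g₀' hx
  obtain ⟨g, hg, s, hs, rfl⟩ := hGS x
  let g₁ : G := (⟨g, hg⟩ : G)⁻¹ * g₀' * ⟨g, hg⟩
  have h1 : (g₁ : Γ) = s * g₀ * s⁻¹ := by
    show g⁻¹ * (g₀' : Γ) * g = _
    rw [hx]
    group
  have h2 : g₀' = (⟨g, hg⟩ : G) * g₁ * (⟨g, hg⟩ : G)⁻¹ := by
    show g₀' = (⟨g, hg⟩ : G) * ((⟨g, hg⟩ : G)⁻¹ * g₀' * ⟨g, hg⟩) * (⟨g, hg⟩ : G)⁻¹
    group
  rw [h2, isChar_conj_eq hχ, h s hs g₀ g₁ h1]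

/-- Schur–Zassenhaus modulo `N`. -/
theorem exists_supplement_mod [Finite Γ] (G N : Subgroup Γ) [G.Normal] [N.Normal] (hNG : N ≤ G)
    (hcop : (G.index).Coprime (N.relIndex G)) :
    ∃ S : Subgroup Γ, N ≤ S ∧ N.relIndex S = G.index ∧
      ∀ x : Γ, ∃ g ∈ G, ∃ s ∈ S, x = g * s := by
  let q := QuotientGroup.mk' N
  have hq : Function.Surjective q := QuotientGroup.mk'_surjective N
  have hker : q.ker = N := QuotientGroup.ker_mk' N
  have hN : N = (⊥ : Subgroup (Γ ⧸ N)).comap q := by rw [MonoidHom.comap_bot, hker]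
  have hGn : (G.map q).Normal := Subgroup.Normal.map inferInstance q hq
  have hcard : Nat.card (G.map q) = N.relIndex G := by
    conv_rhs => rw [hN]
    rw [Subgroup.relIndex_comap, Subgroup.relIndex_bot_left]
  have hidx : (G.map q).index = G.index := Subgroup.index_map_eq G hq (by rw [hker]; exact hNG)
  obtain ⟨Sb, hSb⟩ := Subgroup.exists_right_complement'_of_coprime (N := G.map q)
    (by rw [hcard, hidx]; exact hcop.symm)
  refine ⟨Sb.comap q, ?_, ?_, ?_⟩
  · conv_lhs => rw [hN]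
    exact Subgroup.comap_mono bot_le
  · have h1 : N.relIndex (Sb.comap q) = ((⊥ : Subgroup (Γ ⧸ N)).comap q).relIndex (Sb.comap q) :=
      congrArg (fun A : Subgroup Γ => A.relIndex (Sb.comap q)) hN
    rw [h1, Subgroup.relIndex_comap, Subgroup.relIndex_bot_left,
      Subgroup.map_comap_eq_self_of_surjective hq, ← hidx, hSb.symm.index_eq_card]
  · intro x
    obtain ⟨⟨a, b⟩, hab⟩ := hSb.2 (q x)
    obtain ⟨g, hg, hga⟩ := a.2
    refine ⟨g, hg, g⁻¹ * x, ?_, by group⟩
    show q (g⁻¹ * x) ∈ Sb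
    rw [map_mul, map_inv, hga, ← hab]
    simp

/-- **Normal Hall subgroup with solvable quotient.** -/
theorem exists_inv_over_of_hall [Finite Γ] (G N : Subgroup Γ) [G.Normal] [N.Normal] (hNG : N ≤ G)
    (hcop : Nat.Coprime (Nat.card G) G.index) (hsolv : Group.IsSolvable (Γ ⧸ G))
    [Fintype N] (θ : N → ℂ) (hθ : IsIrrCharacter N θ) (hinv : ConjInv ⊤ N θ) :
    ∃ χ : G → ℂ, IsIrrCharacter G χ ∧ classInner (resTo hNG χ) θ ≠ 0 ∧ ConjInv ⊤ G χ := by
  classical
  have := Fintype.ofFinite Γ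
  have := Fintype.ofFinite G
  obtain ⟨S, hS⟩ := Subgroup.exists_right_complement'_of_coprime hcop
  have hSsolv : Group.IsSolvable S := by
    refine Group.isSolvable_of_isSolvable_injective
      (f := (QuotientGroup.mk' G).comp S.subtype) ?_
    rw [injective_iff_map_eq_one]
    intro s hs
    have h1 : (s : Γ) ∈ G := (QuotientGroup.eq_one_iff _).1 hs
    have h2 : (s : Γ) ∈ G ⊓ S := ⟨h1, s.2⟩
    rw [hS.disjoint.eq_bot, Subgroup.mem_bot] at h2
    exact Subtype.ext h2
  obtain ⟨χ, h1, h2⟩ := Cfsg.Agent.S4449.result G S N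
    (fun s _ g hg => ‹G.Normal›.conj_mem g hg s) hNG
    (fun g _ n hn => ‹N.Normal›.conj_mem n hn g) (fun s _ n hn => ‹N.Normal›.conj_mem n hn s)
    (by rw [← hS.symm.index_eq_card]; exact hcop) hSsolv ⟨θ, hθ⟩
    (fun s _ => hinv s (Subgroup.mem_top s))
  refine ⟨χ.1, χ.2, h1, conjInv_top_of_prod ?_ (isCharacter_of_isIrrCharacter χ.2) h2⟩
  intro x
  obtain ⟨⟨a, b⟩, hab⟩ := hS.2 x
  exact ⟨a, a.2, b, b.2, hab.symm⟩

/-- **Case `G/N` solvable of Isaacs 13.31.** -/
theorem exists_inv_over_of_upper_solvable [Finite Γ] (G N : Subgroup Γ) [hG : G.Normal]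
    [hN : N.Normal] (hNG : N ≤ G) (hcop : (G.index).Coprime (N.relIndex G))
    (hsolv : Group.IsSolvable (G ⧸ N.subgroupOf G))
    [Fintype N] (θ : N → ℂ) (hθ : IsIrrCharacter N θ) (hinv : ConjInv ⊤ N θ) :
    ∃ χ : G → ℂ, IsIrrCharacter G χ ∧ classInner (resTo hNG χ) θ ≠ 0 ∧ ConjInv ⊤ G χ := by
  obtain ⟨S, hNS, hidx, hprod⟩ := exists_supplement_mod G N hNG hcop
  obtain ⟨χ, hχ, h1, h2⟩ := exists_inv_over_of_solvable S G N
    (fun s _ g hg => hG.conj_mem g hg s) (fun s _ n hn => hN.conj_mem n hn s) hNG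
    (fun g _ n hn => hN.conj_mem n hn g)
    (QuotientGroup.mk' (N.subgroupOf G))
    (fun g => by
      rw [QuotientGroup.mk'_apply, QuotientGroup.eq_one_iff]
      exact Subgroup.mem_subgroupOf)
    θ hθ (fun s _ => hinv s (Subgroup.mem_top s)) (by rw [hidx]; exact hcop)
  exact ⟨χ, hχ, h1, conjInv_top_of_prod hprod (isCharacter_of_isIrrCharacter hχ) h2⟩

/-- **Hall modulo `K ≤ ker θ`.** -/
theorem exists_inv_over_of_hall_mod [Finite Γ] (G N K : Subgroup Γ) [hG : G.Normal]
    [hN : N.Normal] [hK : K.Normal] (hKN : K ≤ N) (hNG : N ≤ G)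
    (hcop : Nat.Coprime (K.relIndex G) G.index) (hsolv : Group.IsSolvable (Γ ⧸ G))
    [Fintype N] (θ : N → ℂ) (hθ : IsIrrCharacter N θ) (hinv : ConjInv ⊤ N θ)
    (hker : ∀ n : N, (n : Γ) ∈ K → θ n = θ 1) :
    ∃ χ : G → ℂ, IsIrrCharacter G χ ∧ classInner (resTo hNG χ) θ ≠ 0 ∧ ConjInv ⊤ G χ := by
  classical
  let q := QuotientGroup.mk' K
  have hq : Function.Surjective q := QuotientGroup.mk'_surjective K
  have hqker : q.ker = K := QuotientGroup.ker_mk' K
  have hKbot : K = (⊥ : Subgroup (Γ ⧸ K)).comap q := by rw [MonoidHom.comap_bot, hqker]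
  have hGn : (G.map q).Normal := Subgroup.Normal.map inferInstance q hq
  have hNn : (N.map q).Normal := Subgroup.Normal.map inferInstance q hq
  have hcard : Nat.card (G.map q) = K.relIndex G := by
    have h1 : K.relIndex G = ((⊥ : Subgroup (Γ ⧸ K)).comap q).relIndex G :=
      congrArg (fun A : Subgroup Γ => A.relIndex G) hKbot
    rw [h1, Subgroup.relIndex_comap, Subgroup.relIndex_bot_left]
  have hidx : (G.map q).index = G.index :=
    Subgroup.index_map_eq G hq (by rw [hqker]; exact hKN.trans hNG)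
  have hsolv' : Group.IsSolvable ((Γ ⧸ K) ⧸ G.map q) := by
    refine Group.isSolvable_of_surjective
      (f := QuotientGroup.map G (G.map q) q (Subgroup.le_comap_map q G)) ?_
    intro y
    obtain ⟨x, rfl⟩ := QuotientGroup.mk_surjective y
    obtain ⟨z, rfl⟩ := hq x
    exact ⟨(z : Γ ⧸ G), rfl⟩
  let fN : N →* N.map q := q.subgroupMap N
  have hfN : Function.Surjective fN := q.subgroupMap_surjective N
  let fG : G →* G.map q := q.subgroupMap G
  have hfG : Function.Surjective fG := q.subgroupMap_surjective G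
  have := Fintype.ofFinite (N.map q)
  obtain ⟨θb, hθb, hθb'⟩ := isIrr_deflate_surj fN hfN hθ (by
    intro n hn
    apply hker
    have h1 : q (n : Γ) = 1 := congrArg Subtype.val hn
    rw [← hqker]
    exact h1)
  have hinvb : ConjInv ⊤ (N.map q) θb := by
    intro s _ n n' hn
    obtain ⟨s, rfl⟩ := hq s
    obtain ⟨n, rfl⟩ := hfN n
    have h1 : n' = fN ⟨s * n * s⁻¹, hN.conj_mem n n.2 s⟩ := by
      apply Subtype.ext
      rw [hn]
      show q s * q n * (q s)⁻¹ = q (s * n * s⁻¹)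
      simp
    rw [h1, hθb', hθb']
    exact hinv s (Subgroup.mem_top s) _ _ rfl
  obtain ⟨χb, hχb, h1, h2⟩ := exists_inv_over_of_hall (G.map q) (N.map q) (Subgroup.map_mono hNG)
    (by rw [hcard, hidx]; exact hcop) hsolv' θb hθb hinvb
  refine ⟨fun g => χb (fG g), isIrr_comp_surj hχb fG hfG, ?_, ?_⟩
  · have e1 : resTo hNG (fun g => χb (fG g)) =
        fun n => resTo (Subgroup.map_mono hNG) χb (fN n) := rfl
    have e2 : θ = fun n => θb (fN n) := funext fun n => (hθb' n).symm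
    rw [e1, e2, classInner_comp_surj fN hfN]
    exact h1
  · intro s _ g g' hg
    apply h2 (q s) (Subgroup.mem_top _)
    show q g' = q s * q g * (q s)⁻¹
    rw [hg]
    simp

end amb

end Cfsg.Agent.Lib.Helper79
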