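import Mathlib

set_option autoImplicit false

namespace Cfsg.Agent.Lib.Helper79

/-- Extending a homomorphism from a normal subgroup `N` to `G = ⟨g0⟩ N`. -/
theorem exists_hom_ext_cyclic {G H : Type*} [Group G] [Group H] (N : Subgroup G) [hN : N.Normal]
    (g0 : G) (hgen : ∀ g : G, ∃ i : ℤ, g0 ^ (-i) * g ∈ N) (r : N →* H) (t : H)
    (h1 : ∀ n : N, t * r n * t⁻¹ = r ⟨g0 * n * g0⁻¹, hN.conj_mem n n.2 g0⟩)
    (h2 : ∀ (k : ℤ) (hk : g0 ^ k ∈ N), t ^ k = r ⟨g0 ^ k, hk⟩) :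
    ∃ R : G →* H, (∀ n : N, R n = r n) ∧ R g0 = t := by
  classical
  -- Step A
  have hA : ∀ (j : ℤ) (n : N), t ^ j * r n * (t ^ j)⁻¹ =
      r ⟨g0 ^ j * n * (g0 ^ j)⁻¹, hN.conj_mem n n.2 (g0 ^ j)⟩ := by
    intro j
    induction j using Int.induction_on with
    | zero => intro n; simp
    | succ j ih =>
      intro n
      have e1 : t ^ ((j : ℤ) + 1) = t ^ (j : ℤ) * t := zpow_add_one t j
      have e2 : g0 ^ ((j : ℤ) + 1) = g0 ^ (j : ℤ) * g0 := zpow_add_one g0 j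
      have := ih ⟨g0 * n * g0⁻¹, hN.conj_mem n n.2 g0⟩
      rw [← h1 n] at this
      calc t ^ ((j : ℤ) + 1) * r n * (t ^ ((j : ℤ) + 1))⁻¹
          = t ^ (j : ℤ) * (t * r n * t⁻¹) * (t ^ (j : ℤ))⁻¹ := by rw [e1]; group
        _ = _ := by
          rw [this]
          congr 1
          apply Subtype.ext
          simp only [e2]
          group
    | pred j ih =>
      intro n
      have e1 : t ^ (-(j : ℤ) - 1) = t ^ (-(j : ℤ)) * t⁻¹ := zpow_sub_one t _
      have e2 : g0 ^ (-(j : ℤ) - 1) = g0 ^ (-(j : ℤ)) * g0⁻¹ := zpow_sub_one g0 _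
      have hn' : g0⁻¹ * n * g0 ∈ N := by
        have := hN.conj_mem n n.2 g0⁻¹
        rwa [inv_inv] at this
      have h3 : t⁻¹ * r n * t = r ⟨g0⁻¹ * n * g0, hn'⟩ := by
        have := h1 ⟨g0⁻¹ * n * g0, hn'⟩
        have e : (⟨g0 * ((⟨g0⁻¹ * n * g0, hn'⟩ : N) : G) * g0⁻¹,
            hN.conj_mem _ (⟨g0⁻¹ * n * g0, hn'⟩ : N).2 g0⟩ : N) = n := by
          apply Subtype.ext
          simp only
          group
        rw [e] at this
        rw [← this]
        group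
      have := ih ⟨g0⁻¹ * n * g0, hn'⟩
      rw [← h3] at this
      calc t ^ (-(j : ℤ) - 1) * r n * (t ^ (-(j : ℤ) - 1))⁻¹
          = t ^ (-(j : ℤ)) * (t⁻¹ * r n * t) * (t ^ (-(j : ℤ)))⁻¹ := by rw [e1]; group
        _ = _ := by
          rw [this]
          congr 1
          apply Subtype.ext
          simp only [e2]
          group
  choose idx hidx using hgen
  let R : G → H := fun g => t ^ (idx g) * r ⟨g0 ^ (-(idx g)) * g, hidx g⟩
  -- Step B : independence of the exponent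
  have hB : ∀ (g : G) (i : ℤ) (hi : g0 ^ (-i) * g ∈ N), R g = t ^ i * r ⟨g0 ^ (-i) * g, hi⟩ := by
    intro g i hi
    have hk : g0 ^ (i - idx g) ∈ N := by
      have := N.mul_mem (hidx g) (N.inv_mem hi)
      have e : g0 ^ (-(idx g)) * g * (g0 ^ (-i) * g)⁻¹ = g0 ^ (i - idx g) := by
        rw [mul_inv_rev, zpow_neg, zpow_neg, inv_inv, sub_eq_add_neg, zpow_add, zpow_neg,
          (Commute.zpow_zpow_self g0 i (idx g)).inv_right.eq]
        group
      rwa [e] at this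
    have h3 := h2 _ hk
    have e2 : (⟨g0 ^ (i - idx g), hk⟩ : N) =
        ⟨g0 ^ (-(idx g)) * g, hidx g⟩ * (⟨g0 ^ (-i) * g, hi⟩ : N)⁻¹ := by
      apply Subtype.ext
      simp only [Subgroup.coe_mul, Subgroup.coe_inv]
      rw [mul_inv_rev, zpow_neg, zpow_neg, inv_inv, sub_eq_add_neg, zpow_add, zpow_neg,
        (Commute.zpow_zpow_self g0 i (idx g)).inv_right.eq]
      group
    rw [e2, map_mul, map_inv] at h3
    show t ^ (idx g) * r ⟨g0 ^ (-(idx g)) * g, hidx g⟩ = _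
    have e3 : t ^ i = t ^ (idx g) * t ^ (i - idx g) := by
      rw [← zpow_add]; congr 1; ring
    rw [e3, h3]
    group
  -- Step C : multiplicativity
  have hC : ∀ g h : G, R (g * h) = R g * R h := by
    intro g h
    set i := idx g
    set j := idx h
    have hconj : (g0 ^ (-j)) * (g0 ^ (-i) * g) * (g0 ^ (-j))⁻¹ ∈ N := hN.conj_mem _ (hidx g) _
    have hmem : g0 ^ (-(i + j)) * (g * h) ∈ N := by
      have := N.mul_mem hconj (hidx h)
      have e : (g0 ^ (-j)) * (g0 ^ (-i) * g) * (g0 ^ (-j))⁻¹ * (g0 ^ (-j) * h) =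
          g0 ^ (-(i + j)) * (g * h) := by
        rw [neg_add, zpow_add, (Commute.zpow_zpow_self g0 (-i) (-j)).eq]
        group
      rwa [e] at this
    rw [hB (g * h) (i + j) hmem]
    have e4 : (⟨g0 ^ (-(i + j)) * (g * h), hmem⟩ : N) =
        ⟨(g0 ^ (-j)) * (g0 ^ (-i) * g) * (g0 ^ (-j))⁻¹, hconj⟩ * ⟨g0 ^ (-j) * h, hidx h⟩ := by
      apply Subtype.ext
      simp only [Subgroup.coe_mul]
      rw [neg_add, zpow_add, (Commute.zpow_zpow_self g0 (-i) (-j)).eq]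
      group
    rw [e4, map_mul]
    have h5 := hA (-j) ⟨g0 ^ (-i) * g, hidx g⟩
    rw [← h5]
    show _ = t ^ i * r ⟨g0 ^ (-i) * g, hidx g⟩ * (t ^ j * r ⟨g0 ^ (-j) * h, hidx h⟩)
    rw [zpow_add, zpow_neg]
    group
  refine ⟨MonoidHom.mk' R hC, ?_, ?_⟩
  · intro n
    show R n = r n
    rw [hB n 0 (by simpa using n.2)]
    simp
  · show R g0 = t
    rw [hB g0 1 (by simp)]
    have : (⟨g0 ^ (-1 : ℤ) * g0, by simp⟩ : N) = 1 := by
      apply Subtype.ext; simp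
    rw [this]; simp

end Cfsg.Agent.Lib.Helper79
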