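import Mathlib

set_option autoImplicit false

namespace Cfsg.Agent.Lib.Helper79.FixAvg

open Equiv Finset

variable {n : ℕ}

/-- multiple transitivity of the alternating group, elementwise -/
theorem alt_trans {k : ℕ} (hk : k + 2 ≤ n) (x y : Fin k ↪ Fin n) :
    ∃ g : Perm (Fin n), Perm.sign g = 1 ∧ ∀ i, g (x i) = y i := by
  have h1 := alternatingGroup.isMultiplyPretransitive (Fin n)
  have h2 : MulAction.IsMultiplyPretransitive (alternatingGroup (Fin n)) (Fin n) k := by
    apply MulAction.isMultiplyPretransitive_of_le (n := Nat.card (Fin n) - 2)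
    · simp; omega
    · simp
  obtain ⟨g, hg⟩ := h2.exists_smul_eq x y
  refine ⟨g.1, g.2, fun i => ?_⟩
  have := DFunLike.congr_fun hg i
  simpa [Subgroup.smul_def, Perm.smul_def] using this

theorem alt_trans2 (hn : 5 ≤ n) {u v x y : Fin n} (huv : u ≠ v) (hxy : x ≠ y) :
    ∃ g : Perm (Fin n), Perm.sign g = 1 ∧ g u = x ∧ g v = y := by
  let e1 : Fin 2 ↪ Fin n := ⟨![u, v], by
    intro i j h; fin_cases i <;> fin_cases j <;> simp_all⟩
  let e2 : Fin 2 ↪ Fin n := ⟨![x, y], by
    intro i j h; fin_cases i <;> fin_cases j <;> simp_all⟩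
  obtain ⟨g, hg, h⟩ := alt_trans (n := n) (k := 2) (by omega) e1 e2
  exact ⟨g, hg, h 0, h 1⟩

theorem alt_trans3 (hn : 5 ≤ n) {u v w x y z : Fin n} (huv : u ≠ v) (huw : u ≠ w) (hvw : v ≠ w)
    (hxy : x ≠ y) (hxz : x ≠ z) (hyz : y ≠ z) :
    ∃ g : Perm (Fin n), Perm.sign g = 1 ∧ g u = x ∧ g v = y ∧ g w = z := by
  let e1 : Fin 3 ↪ Fin n := ⟨![u, v, w], by
    intro i j h; fin_cases i <;> fin_cases j <;> simp_all⟩
  let e2 : Fin 3 ↪ Fin n := ⟨![x, y, z], by
    intro i j h; fin_cases i <;> fin_cases j <;> simp_all⟩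
  obtain ⟨g, hg, h⟩ := alt_trans (n := n) (k := 3) (by omega) e1 e2
  exact ⟨g, hg, h 0, h 1, h 2⟩

/-- the even permutations -/
def E (n : ℕ) : Finset (Perm (Fin n)) := univ.filter (fun g => Perm.sign g = 1)

theorem mem_E {g : Perm (Fin n)} : g ∈ E n ↔ Perm.sign g = 1 := by simp [E]

theorem cnt2 (hn : 5 ≤ n) {u v x y u' v' x' y' : Fin n} (huv : u ≠ v) (hxy : x ≠ y)
    (huv' : u' ≠ v') (hxy' : x' ≠ y') :
    ((E n).filter (fun g => g u = x ∧ g v = y)).card
      = ((E n).filter (fun g => g u' = x' ∧ g v' = y')).card := by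
  obtain ⟨s, hs, hs1, hs2⟩ := alt_trans2 hn huv' huv
  obtain ⟨t, ht, ht1, ht2⟩ := alt_trans2 hn hxy hxy'
  apply Finset.card_nbij' (i := fun g => t * g * s) (j := fun g => t⁻¹ * g * s⁻¹)
  · intro g hg
    simp only [coe_filter, Set.mem_ofPred_eq, mem_E] at hg ⊢
    refine ⟨by simp [hg.1, hs, ht], ?_, ?_⟩
    · simp [hs1, hg.2.1, ht1]
    · simp [hs2, hg.2.2, ht2]
  · intro g hg
    simp only [coe_filter, Set.mem_ofPred_eq, mem_E] at hg ⊢
    refine ⟨by simp [hg.1, hs, ht], ?_, ?_⟩
    · have : s⁻¹ u = u' := by rw [← hs1]; simp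
      simp only [Perm.coe_mul, Function.comp_apply, this, hg.2.1]
      rw [← ht1]; simp
    · have : s⁻¹ v = v' := by rw [← hs2]; simp
      simp only [Perm.coe_mul, Function.comp_apply, this, hg.2.2]
      rw [← ht2]; simp
  · intro g _; simp [mul_assoc]
  · intro g _; simp [mul_assoc]

theorem exists_t2 (hn : 5 ≤ n) : ∃ t : ℕ, 0 < t ∧ ∀ u v x y : Fin n, u ≠ v → x ≠ y →
    ((E n).filter (fun g => g u = x ∧ g v = y)).card = t := by
  have h01 : (⟨0, by omega⟩ : Fin n) ≠ ⟨1, by omega⟩ := by simp [Fin.ext_iff]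
  refine ⟨((E n).filter (fun g => g (⟨0, by omega⟩ : Fin n) = ⟨0, by omega⟩ ∧
    g (⟨1, by omega⟩ : Fin n) = ⟨1, by omega⟩)).card, ?_, ?_⟩
  · apply Finset.card_pos.mpr
    exact ⟨1, by simp [mem_E]⟩
  · intro u v x y huv hxy
    exact cnt2 hn huv hxy h01 h01

theorem sum_ite_card {ι : Type*} [Fintype ι] (P : ι → Prop) [DecidablePred P] (A B : ℕ) :
    ∑ x : ι, (if P x then A else B) =
      (univ.filter P).card * A + (univ.filter (fun x => ¬ P x)).card * B := by
  rw [Finset.sum_ite]
  simp

theorem card_not (P : Fin n → Prop) [DecidablePred P] :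
    (univ.filter P).card + (univ.filter (fun x => ¬ P x)).card = n := by
  have := Finset.card_filter_add_card_filter_not (s := (univ : Finset (Fin n))) P
  simpa using this

theorem cnt1 (hn : 5 ≤ n) {t : ℕ} (ht : ∀ u v x y : Fin n, u ≠ v → x ≠ y →
    ((E n).filter (fun g => g u = x ∧ g v = y)).card = t) (u x : Fin n) :
    ((E n).filter (fun g => g u = x)).card = (n - 1) * t := by
  obtain ⟨v, hv⟩ : ∃ v : Fin n, u ≠ v := by
    by_cases h : u = ⟨0, by omega⟩
    · exact ⟨⟨1, by omega⟩, by rw [h]; simp [Fin.ext_iff]⟩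
    · exact ⟨_, h⟩
  rw [Finset.card_eq_sum_card_fiberwise (f := fun g => g v) (t := univ) (by intro _ _; simp)]
  have : ∀ y : Fin n, (((E n).filter (fun g => g u = x)).filter (fun g => g v = y)).card
      = if y = x then 0 else t := by
    intro y
    rw [Finset.filter_filter]
    split_ifs with h
    · rw [Finset.card_eq_zero, Finset.filter_eq_empty_iff]
      rintro g _ ⟨h1, h2⟩
      exact hv (g.injective (by rw [h1, h2, h]))
    · exact ht u v x y hv (Ne.symm h)
  rw [Finset.sum_congr rfl (fun y _ => this y), sum_ite_card]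
  have h1 : (univ.filter (fun y : Fin n => y = x)).card = 1 := by
    rw [Finset.filter_eq' univ x]; simp
  have h2 := card_not (n := n) (fun y => y = x)
  rw [h1] at h2
  have h3 : (univ.filter (fun y : Fin n => ¬ y = x)).card = n - 1 := by omega
  rw [h3]; simp

theorem cnt0 (hn : 5 ≤ n) {t : ℕ} (ht : ∀ u v x y : Fin n, u ≠ v → x ≠ y →
    ((E n).filter (fun g => g u = x ∧ g v = y)).card = t) :
    (E n).card = n * ((n - 1) * t) := by
  rw [Finset.card_eq_sum_card_fiberwise (f := fun g => g (⟨0, by omega⟩ : Fin n)) (t := univ)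
    (by intro _ _; simp)]
  rw [Finset.sum_congr rfl (fun y _ => cnt1 hn ht _ y)]
  simp

theorem main_sum (hn : 5 ≤ n) {t : ℕ} (ht : ∀ u v x y : Fin n, u ≠ v → x ≠ y →
    ((E n).filter (fun g => g u = x ∧ g v = y)).card = t) (b c : Perm (Fin n)) :
    ∑ g ∈ E n, (univ.filter (fun u => g (b u) = c (g u))).card =
      ((univ.filter (fun u => b u = u)).card * ((univ.filter (fun x => c x = x)).card * ((n - 1) * t))
       + (univ.filter (fun u => ¬ b u = u)).card * ((univ.filter (fun x => ¬ c x = x)).card * t)) := by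
  have h1 : ∑ g ∈ E n, (univ.filter (fun u => g (b u) = c (g u))).card
      = ∑ u : Fin n, ((E n).filter (fun g => g (b u) = c (g u))).card := by
    simp_rw [Finset.card_filter]
    rw [Finset.sum_comm]
  rw [h1]
  have h2 : ∀ u : Fin n, ((E n).filter (fun g => g (b u) = c (g u))).card
      = if b u = u then ((univ.filter (fun x => c x = x)).card * ((n - 1) * t))
        else ((univ.filter (fun x => ¬ c x = x)).card * t) := by
    intro u
    rw [Finset.card_eq_sum_card_fiberwise (f := fun g => g u) (t := univ) (by intro _ _; simp)]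
    split_ifs with hb
    · have : ∀ x : Fin n, (((E n).filter (fun g => g (b u) = c (g u))).filter
          (fun g => g u = x)).card = if c x = x then (n - 1) * t else 0 := by
        intro x
        rw [Finset.filter_filter]
        split_ifs with hc
        · rw [← cnt1 hn ht u x]
          congr 1
          apply Finset.filter_congr
          intro g _
          constructor
          · exact fun h => h.2
          · intro h; exact ⟨by rw [hb, h, hc], h⟩
        · rw [Finset.card_eq_zero, Finset.filter_eq_empty_iff]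
          rintro g _ ⟨h1, h2⟩
          rw [hb, h2] at h1
          exact hc h1.symm
      rw [Finset.sum_congr rfl (fun y _ => this y), sum_ite_card]
      simp
    · have : ∀ x : Fin n, (((E n).filter (fun g => g (b u) = c (g u))).filter
          (fun g => g u = x)).card = if c x = x then 0 else t := by
        intro x
        rw [Finset.filter_filter]
        split_ifs with hc
        · rw [Finset.card_eq_zero, Finset.filter_eq_empty_iff]
          rintro g _ ⟨h1, h2⟩
          rw [h2, hc, ← h2] at h1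
          exact hb (g.injective h1)
        · rw [← ht u (b u) x (c x) (Ne.symm hb) (Ne.symm hc)]
          congr 1
          apply Finset.filter_congr
          intro g _
          constructor
          · rintro ⟨h1, h2⟩; exact ⟨h2, by rw [h1, h2]⟩
          · rintro ⟨h1, h2⟩; exact ⟨by rw [h2, h1], h1⟩
      rw [Finset.sum_congr rfl (fun y _ => this y), sum_ite_card]
      simp
  rw [Finset.sum_congr rfl (fun y _ => h2 y), sum_ite_card]

end Cfsg.Agent.Lib.Helper79.FixAvg
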