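import Cfsg.Agent.Lib.Helper79.FixAvg

set_option autoImplicit false

namespace Cfsg.Agent.Lib.Helper79.FixAvg

open Equiv Finset

variable {n : ℕ}

/-- number of agreements between `g b g⁻¹` and `c` -/
def agr (b c g : Perm (Fin n)) : ℕ := (univ.filter (fun u => g (b u) = c (g u))).card

theorem agr_symm (b c g : Perm (Fin n)) : agr b c g = agr c b g⁻¹ := by
  unfold agr
  apply Finset.card_nbij' (i := fun u => g u) (j := fun w => g⁻¹ w)
  · intro u hu
    simp only [coe_filter, mem_univ, true_and, Set.mem_ofPred_eq] at hu ⊢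
    rw [← hu]; simp
  · intro w hw
    simp only [coe_filter, mem_univ, true_and, Set.mem_ofPred_eq] at hw ⊢
    rw [← hw]; simp
  · intro u _; simp
  · intro u _; simp

theorem avg_eq (hn : 5 ≤ n) (b c : Perm (Fin n)) (N0 : ℕ) (hconst : ∀ g ∈ E n, agr b c g = N0) :
    N0 * (n * (n - 1)) =
      (univ.filter (fun u => b u = u)).card * ((univ.filter (fun x => c x = x)).card * (n - 1))
       + (univ.filter (fun u => ¬ b u = u)).card * (univ.filter (fun x => ¬ c x = x)).card := by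
  obtain ⟨t, ht0, ht⟩ := exists_t2 hn
  have h1 := main_sum hn ht b c
  have h2 : ∑ g ∈ E n, (univ.filter (fun u => g (b u) = c (g u))).card = (E n).card * N0 := by
    have : ∑ g ∈ E n, (univ.filter (fun u => g (b u) = c (g u))).card = ∑ g ∈ E n, N0 :=
      Finset.sum_congr rfl (fun g hg => hconst g hg)
    rw [this]
    simp
  rw [h2, cnt0 hn ht] at h1
  apply Nat.eq_of_mul_eq_mul_right ht0
  calc N0 * (n * (n - 1)) * t = n * ((n - 1) * t) * N0 := by ring
    _ = _ := h1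
    _ = _ := by ring

theorem two_le_agr {b c g : Perm (Fin n)} {u w : Fin n} (huw : u ≠ w)
    (hu : g (b u) = c (g u)) (hw : g (b w) = c (g w)) : 2 ≤ agr b c g := by
  unfold agr
  apply Finset.one_lt_card.mpr
  exact ⟨u, by simp [hu], w, by simp [hw], huw⟩

theorem caseA (b c : Perm (Fin n))
    (hfh : (univ.filter (fun x => c x = x)).card ≤ (univ.filter (fun u => b u = u)).card)
    (hf : (univ.filter (fun x => c x = x)).card + 2 ≤ n) :
    ∃ g ∈ E n, (univ.filter (fun x => c x = x)).card ≤ agr b c g := by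
  set Fc := univ.filter (fun x => c x = x) with hFc
  set Fb := univ.filter (fun u => b u = u) with hFb
  let ec : Fin Fc.card ↪ Fin n := (Fc.orderEmbOfFin rfl).toEmbedding
  let eb : Fin Fc.card ↪ Fin n := (Fin.castLEEmb hfh).trans (Fb.orderEmbOfFin rfl).toEmbedding
  obtain ⟨g, hg, h⟩ := alt_trans hf eb ec
  refine ⟨g, mem_E.mpr hg, ?_⟩
  have h1 : (univ.map eb).card = Fc.card := by simp
  rw [← h1]
  unfold agr
  apply Finset.card_le_card
  intro u hu
  obtain ⟨i, -, rfl⟩ := Finset.mem_map.mp hu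
  have hb : b (eb i) = eb i := by
    have : eb i ∈ Fb := Finset.orderEmbOfFin_mem Fb rfl _
    simpa [hFb] using this
  have hc : c (ec i) = ec i := by
    have : ec i ∈ Fc := Finset.orderEmbOfFin_mem Fc rfl _
    simpa [hFc] using this
  simp only [mem_filter, mem_univ, true_and]
  rw [hb, h i, hc]

theorem caseB (hn : 5 ≤ n) (b c : Perm (Fin n)) (hb : b ≠ 1) (hc : c ≠ 1)
    {z z0 : Fin n} (hz : c z = z) (hz0 : b z0 = z0) : ∃ g ∈ E n, 2 ≤ agr b c g := by
  obtain ⟨x, hx⟩ : ∃ x, c x ≠ x := by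
    by_contra h; push Not at h; exact hc (Equiv.ext h)
  obtain ⟨u, hu⟩ : ∃ u, b u ≠ u := by
    by_contra h; push Not at h; exact hb (Equiv.ext h)
  have h1 : z ≠ x := by rintro rfl; exact hx hz
  have h2 : z ≠ c x := by
    intro h; apply h1; apply c.injective; rw [hz]; exact h
  have h3 : z0 ≠ u := by rintro rfl; exact hu hz0
  have h4 : z0 ≠ b u := by
    intro h; apply h3; apply b.injective; rw [hz0]; exact h
  obtain ⟨g, hg, g1, g2, g3⟩ := alt_trans3 hn h3 h4 (Ne.symm hu) h1 h2 (Ne.symm hx)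
  refine ⟨g, mem_E.mpr hg, two_le_agr h3 ?_ ?_⟩
  · rw [hz0, g1, hz]
  · rw [g3, g2]

theorem caseC1 (hn : 5 ≤ n) (b c : Perm (Fin n)) {u x : Fin n} (hu : b (b u) ≠ u)
    (hx : c (c x) ≠ x) : ∃ g ∈ E n, 2 ≤ agr b c g := by
  have h1 : u ≠ b u := by intro h; apply hu; rw [← h, ← h]
  have h2 : b u ≠ b (b u) := fun h => h1 (b.injective h)
  have h3 : x ≠ c x := by intro h; apply hx; rw [← h, ← h]
  have h4 : c x ≠ c (c x) := fun h => h3 (c.injective h)
  obtain ⟨g, hg, g1, g2, g3⟩ := alt_trans3 hn h1 (Ne.symm hu) h2 h3 (Ne.symm hx) h4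
  refine ⟨g, mem_E.mpr hg, two_le_agr h1 ?_ ?_⟩
  · rw [g2, g1]
  · rw [g3, g2]

theorem perm_trans4 {u v u' v' x y x' y' : Fin n}
    (h1 : u ≠ v) (h2 : u ≠ u') (h3 : u ≠ v') (h4 : v ≠ u') (h5 : v ≠ v') (h6 : u' ≠ v')
    (k1 : x ≠ y) (k2 : x ≠ x') (k3 : x ≠ y') (k4 : y ≠ x') (k5 : y ≠ y') (k6 : x' ≠ y') :
    ∃ g : Perm (Fin n), g u = x ∧ g v = y ∧ g u' = x' ∧ g v' = y' := by
  let e1 : Fin 4 ↪ Fin n := ⟨![u, v, u', v'], by
    intro i j h; fin_cases i <;> fin_cases j <;> simp_all⟩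
  let e2 : Fin 4 ↪ Fin n := ⟨![x, y, x', y'], by
    intro i j h; fin_cases i <;> fin_cases j <;> simp_all⟩
  have := Equiv.Perm.isMultiplyPretransitive (Fin n) 4
  obtain ⟨g, hg⟩ := this.exists_smul_eq e1 e2
  have h : ∀ i, g (e1 i) = e2 i := fun i => by
    have := DFunLike.congr_fun hg i
    simpa [Perm.smul_def] using this
  exact ⟨g, h 0, h 1, h 2, h 3⟩

theorem exists_arcs (hn : 5 ≤ n) (Q : Perm (Fin n))
    (hQ : (univ.filter (fun x => Q x = x)).card ≤ 1) :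
    ∃ x x' : Fin n, x ≠ Q x ∧ x ≠ x' ∧ x ≠ Q x' ∧ Q x ≠ x' ∧ Q x ≠ Q x' ∧ x' ≠ Q x' := by
  have key : ∀ S : Finset (Fin n), S.card < n → ∃ x, x ∉ S := by
    intro S hS
    by_contra h
    push Not at h
    have : (univ : Finset (Fin n)) ⊆ S := fun x _ => h x
    have := Finset.card_le_card this
    simp at this
    omega
  obtain ⟨x, hx⟩ := key (univ.filter (fun x => Q x = x)) (by omega)
  have hx' : Q x ≠ x := by simpa using hx
  obtain ⟨x', hx2⟩ := key (({x, Q x, Q⁻¹ x} : Finset (Fin n)) ∪ univ.filter (fun x => Q x = x)) (by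
    have h1 : ({x, Q x, Q⁻¹ x} : Finset (Fin n)).card ≤ 3 := Finset.card_le_three
    have h2 := Finset.card_union_le ({x, Q x, Q⁻¹ x} : Finset (Fin n))
      (univ.filter (fun x => Q x = x))
    omega)
  simp only [mem_union, mem_insert, mem_singleton, mem_filter, mem_univ, true_and, not_or] at hx2
  obtain ⟨⟨a1, a2, a3⟩, a4⟩ := hx2
  refine ⟨x, x', Ne.symm hx', Ne.symm a1, ?_, Ne.symm a2, ?_, Ne.symm a4⟩
  · intro h; apply a3; rw [h]; simp
  · intro h; exact a1 (Q.injective h).symm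

theorem caseC2 (hn : 5 ≤ n) (b c : Perm (Fin n)) (hb2 : ∀ w, b (b w) = w)
    (hb : (univ.filter (fun x => b x = x)).card ≤ 1)
    (hc : (univ.filter (fun x => c x = x)).card ≤ 1) : ∃ g ∈ E n, 2 ≤ agr b c g := by
  obtain ⟨u, u', h1, h2, h3, h4, h5, h6⟩ := exists_arcs hn b hb
  obtain ⟨x, x', k1, k2, k3, k4, k5, k6⟩ := exists_arcs hn c hc
  obtain ⟨σ, s1, s2, s3, s4⟩ := perm_trans4 h1 h2 h3 h4 h5 h6 k1 k2 k3 k4 k5 k6
  rcases Int.units_eq_one_or (Perm.sign σ) with hs | hs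
  · refine ⟨σ, mem_E.mpr hs, two_le_agr h2 ?_ ?_⟩
    · rw [s2, s1]
    · rw [s4, s3]
  · refine ⟨σ * swap u (b u), mem_E.mpr (by simp [hs, h1]), two_le_agr h4 ?_ ?_⟩
    · simp only [Perm.coe_mul, Function.comp_apply, hb2, swap_apply_left, swap_apply_right]
      rw [s2, s1]
    · simp only [Perm.coe_mul, Function.comp_apply]
      rw [swap_apply_of_ne_of_ne (Ne.symm h3) (Ne.symm h5),
        swap_apply_of_ne_of_ne (Ne.symm h2) (Ne.symm h4), s4, s3]

theorem caseC (hn : 5 ≤ n) (b c : Perm (Fin n))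
    (hb : (univ.filter (fun x => b x = x)).card ≤ 1)
    (hc : (univ.filter (fun x => c x = x)).card ≤ 1) : ∃ g ∈ E n, 2 ≤ agr b c g := by
  by_cases hb2 : ∀ w, b (b w) = w
  · exact caseC2 hn b c hb2 hb hc
  by_cases hc2 : ∀ w, c (c w) = w
  · obtain ⟨g, hg, h⟩ := caseC2 hn c b hc2 hc hb
    refine ⟨g⁻¹, mem_E.mpr (by simp [mem_E.mp hg]), ?_⟩
    rw [agr_symm]; simpa using h
  push Not at hb2 hc2
  obtain ⟨u, hu⟩ := hb2
  obtain ⟨x, hx⟩ := hc2
  exact caseC1 hn b c hu hx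

end Cfsg.Agent.Lib.Helper79.FixAvg
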