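import Cfsg.Agent.Lib.Helper79.FixAvg2

set_option autoImplicit false

namespace Cfsg.Agent.Lib.Helper79.FixAvg

open Equiv Finset

variable {n : ℕ}

theorem two_le_moved (b : Perm (Fin n)) (hb : b ≠ 1) :
    2 ≤ (univ.filter (fun u => ¬ b u = u)).card := by
  obtain ⟨u, hu⟩ : ∃ u, b u ≠ u := by
    by_contra h; push Not at h; exact hb (Equiv.ext h)
  apply Finset.one_lt_card.mpr
  refine ⟨u, by simp [hu], b u, ?_, Ne.symm hu⟩
  simp only [mem_filter, mem_univ, true_and]
  intro h; exact hu (b.injective h)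

theorem not_const_aux (hn : 5 ≤ n) (b c : Perm (Fin n)) (hb : b ≠ 1) (hc : c ≠ 1)
    (hfh : (univ.filter (fun x => c x = x)).card ≤ (univ.filter (fun u => b u = u)).card)
    (N0 : ℕ) (hconst : ∀ g ∈ E n, agr b c g = N0) : False := by
  have heq := avg_eq hn b c N0 hconst
  have hA := caseA b c hfh
  have hBB := fun (z z0 : Fin n) (hz : c z = z) (hz0 : b z0 = z0) => caseB hn b c hb hc hz hz0
  have hCC := caseC hn b c
  have e1 := card_not (n := n) (fun x => c x = x)
  have e2 := card_not (n := n) (fun u => b u = u)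
  have m1 := two_le_moved b hb
  have m2 := two_le_moved c hc
  have hfpos : ∀ (d : Perm (Fin n)), 0 < (univ.filter (fun x => d x = x)).card → ∃ z, d z = z := by
    intro d hd
    obtain ⟨z, hz⟩ := Finset.card_pos.mp hd
    exact ⟨z, by simpa using hz⟩
  have hfc := hfpos c
  have hfb := hfpos b
  generalize (univ.filter (fun x => c x = x)).card = f at *
  generalize (univ.filter (fun x => ¬ c x = x)).card = f' at *
  generalize (univ.filter (fun u => b u = u)).card = h at *
  generalize (univ.filter (fun u => ¬ b u = u)).card = h' at *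
  obtain ⟨m, rfl⟩ : ∃ m, n = m + 1 := ⟨n - 1, by omega⟩
  simp only [Nat.add_sub_cancel] at heq
  rcases Nat.lt_or_ge f 2 with hf2 | hf2
  · interval_cases f
    · -- f = 0
      have hf' : f' = m + 1 := by omega
      rw [hf'] at heq
      have h3 : N0 * m = h' := by
        have : (N0 * m) * (m + 1) = h' * (m + 1) := by
          calc (N0 * m) * (m + 1) = N0 * ((m + 1) * m) := by ring
            _ = _ := heq
            _ = _ := by ring
        exact Nat.eq_of_mul_eq_mul_right (by omega) this
      have hN1 : N0 = 1 := by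
        rcases Nat.lt_or_ge N0 2 with hN | hN
        · interval_cases N0
          · omega
          · rfl
        · have : 2 * m ≤ N0 * m := Nat.mul_le_mul_right m hN
          omega
      have hh : h ≤ 1 := by rw [hN1] at h3; omega
      obtain ⟨g, hg, h2⟩ := hCC hh (by omega)
      rw [hconst g hg] at h2
      omega
    · -- f = 1
      have hN1 : N0 = 1 := by
        have hf' : f' = m := by omega
        rw [hf'] at heq
        have : N0 * ((m + 1) * m) = 1 * ((m + 1) * m) := by
          calc N0 * ((m + 1) * m) = _ := heq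
            _ = (h + h') * m := by ring
            _ = _ := by rw [e2]; ring
        exact Nat.eq_of_mul_eq_mul_right (Nat.mul_pos (by omega) (by omega)) this
      obtain ⟨z, hz⟩ := hfc (by omega)
      obtain ⟨z0, hz0⟩ := hfb (by omega)
      obtain ⟨g, hg, h2⟩ := hBB z z0 hz hz0
      rw [hconst g hg] at h2
      omega
  · obtain ⟨g, hg, h2⟩ := hA (by omega)
    rw [hconst g hg] at h2
    have h3 : f * ((m + 1) * m) ≤ h * (f * m) + h' * f' := by
      rw [← heq]; exact Nat.mul_le_mul_right _ h2
    have h4 : f * ((m + 1) * m) = h * (f * m) + h' * (f * m) := by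
      rw [← e2]; ring
    have h5 : h' * (f * m) ≤ h' * f' := by omega
    have h6 : f * m ≤ f' := Nat.le_of_mul_le_mul_left h5 (by omega)
    have h7 : 2 * m ≤ f * m := Nat.mul_le_mul_right m hf2
    omega

theorem not_const (hn : 5 ≤ n) (b c : Perm (Fin n)) (hb : b ≠ 1) (hc : c ≠ 1)
    (N0 : ℕ) (hconst : ∀ g ∈ E n, agr b c g = N0) : False := by
  rcases le_total (univ.filter (fun x => c x = x)).card (univ.filter (fun u => b u = u)).card
    with h | h
  · exact not_const_aux hn b c hb hc h N0 hconst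
  · apply not_const_aux hn c b hc hb h N0
    intro g hg
    rw [agr_symm]
    exact hconst g⁻¹ (mem_E.mpr (by simp [mem_E.mp hg]))

theorem card_fixed_eq_agr (a b g : Perm (Fin n)) :
    Nat.card (Function.fixedPoints ⇑(a * (g * b * g⁻¹))) = agr b a⁻¹ g := by
  unfold agr
  rw [← Fintype.card_subtype, ← Nat.card_eq_fintype_card]
  apply Nat.card_congr
  refine ⟨fun x => ⟨g⁻¹ x.1, ?_⟩, fun u => ⟨g u.1, ?_⟩, ?_, ?_⟩
  · have := x.2
    simp only [Function.mem_fixedPoints, Function.IsFixedPt, Perm.coe_mul,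
      Function.comp_apply] at this
    show g (b (g⁻¹ x.1)) = a⁻¹ (g (g⁻¹ x.1))
    rw [Perm.eq_inv_iff_eq]
    simpa using this
  · have := u.2
    simp only [Function.mem_fixedPoints, Function.IsFixedPt, Perm.coe_mul,
      Function.comp_apply]
    have h2 : g⁻¹ (g u.1) = u.1 := by simp
    rw [h2, this]; simp
  · intro x; apply Subtype.ext; simp
  · intro u; apply Subtype.ext; simp

theorem final (hn : 5 ≤ n) (a b : Perm (Fin n)) (ha : a ≠ 1) (hb : b ≠ 1) :
    ∃ g₁ h₁ g₂ h₂ : Equiv.Perm (Fin n), g₁ ∈ alternatingGroup (Fin n) ∧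
      h₁ ∈ alternatingGroup (Fin n) ∧ g₂ ∈ alternatingGroup (Fin n) ∧
      h₂ ∈ alternatingGroup (Fin n) ∧
      Nat.card (Function.fixedPoints ⇑(g₁ * a * g₁⁻¹ * (h₁ * b * h₁⁻¹))) ≠
        Nat.card (Function.fixedPoints ⇑(g₂ * a * g₂⁻¹ * (h₂ * b * h₂⁻¹))) := by
  by_contra hcon
  push Not at hcon
  apply not_const hn b a⁻¹ hb (by simpa using ha) (agr b a⁻¹ 1)
  intro g hg
  have := hcon 1 g 1 1 (one_mem _) (Perm.mem_alternatingGroup.mpr (mem_E.mp hg)) (one_mem _)
    (one_mem _)
  simp only [one_mul, inv_one, mul_one] at this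
  have h1 := card_fixed_eq_agr a b g
  have h2 := card_fixed_eq_agr a b 1
  simp only [one_mul, inv_one, mul_one] at h2
  rw [← h1, ← h2, this]

end Cfsg.Agent.Lib.Helper79.FixAvg
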