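import Cfsg.Agent.Lib.Helper79.NAverage
import Cfsg.Agent.Lib.Helper20.CharColumn
import Cfsg.Agent.S4996

set_option autoImplicit false

namespace Cfsg.Agent.Lib.Helper79

open Cfsg ComplexConjugate

/-- If `η ∈ Irr(K)` restricts irreducibly to `M ⊴ K` and `H`-fusion inside the coset `M g`
preserves the values of `η`, then some irreducible character of `H` is not orthogonal to `η`
on the coset `M g`. -/
theorem exists_irr_sum_coset_ne_zero {H : Type*} [Group H] [Finite H] (K : Subgroup H)
    (M : Subgroup K) [M.Normal] [Fintype M]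
    (η : K → ℂ) (hη : IsIrrCharacter K η) (hηM : IsIrrCharacter M (fun n : M => η n)) (g : K)
    (hg : ∀ n n' : M, IsConj (((n : K) * g : K) : H) (((n' : K) * g : K) : H) →
      η (n * g) = η (n' * g)) :
    ∃ ψ : IrrCharacter H, ∑ n : M, η (n * g) * conj ((ψ : H → ℂ) ((n : K) * g : K)) ≠ 0 := by
  classical
  have := Fintype.ofFinite H
  have := Cfsg.Agent.Lib.Helper20.finite_irrCharacter (G := H)
  have := Fintype.ofFinite (IrrCharacter H)
  by_contra hno
  push Not at hno
  let a : M → M → ℝ := fun n n' =>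
    if IsConj (((n : K) * g : K) : H) (((n' : K) * g : K) : H) then
      ‖η (n * g)‖ ^ 2 * (Nat.card (Subgroup.centralizer ({(((n : K) * g : K) : H)} : Set H)) : ℝ)
    else 0
  have ha0 : ∀ n n', 0 ≤ a n n' := by
    intro n n'
    simp only [a]
    split_ifs
    · positivity
    · exact le_rfl
  have hA : ∑ n : M, ∑ n' : M, ((a n n' : ℝ) : ℂ) = 0 := by
    have h1 : ∀ n n' : M, ((a n n' : ℝ) : ℂ) = conj (η (n * g)) * η (n' * g) *
        ∑ ψ : IrrCharacter H, (ψ : H → ℂ) ((n : K) * g : K) * conj ((ψ : H → ℂ) ((n' : K) * g : K)) := by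
      intro n n'
      rw [Cfsg.Agent.Lib.Helper20.sum_irr_mul_conj]
      simp only [a]
      split_ifs with hc
      · rw [← hg n n' hc, mul_comm (conj _), Complex.mul_conj, Complex.normSq_eq_norm_sq]
        push_cast
        rfl
      · simp
    simp_rw [h1, Finset.mul_sum]
    calc ∑ n : M, ∑ n' : M, ∑ ψ : IrrCharacter H, conj (η (n * g)) * η (n' * g) *
          ((ψ : H → ℂ) ((n : K) * g : K) * conj ((ψ : H → ℂ) ((n' : K) * g : K)))
        = ∑ ψ : IrrCharacter H, (∑ n : M, conj (η (n * g)) * (ψ : H → ℂ) ((n : K) * g : K)) *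
            (∑ n' : M, η (n' * g) * conj ((ψ : H → ℂ) ((n' : K) * g : K))) := by
          rw [Finset.sum_congr rfl (fun n _ => Finset.sum_comm), Finset.sum_comm]
          apply Finset.sum_congr rfl
          intro ψ _
          rw [Finset.sum_mul_sum]
          apply Finset.sum_congr rfl
          intro n _
          apply Finset.sum_congr rfl
          intro n' _
          ring
      _ = 0 := by
          apply Finset.sum_eq_zero
          intro ψ _
          rw [hno ψ, mul_zero]
  have hA' : ∑ n : M, ∑ n' : M, a n n' = 0 := by exact_mod_cast hA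
  have key : ∀ n : M, η (n * g) = 0 := by
    intro n
    have h1 := (Finset.sum_eq_zero_iff_of_nonneg
      (fun n _ => Finset.sum_nonneg (fun n' _ => ha0 n n'))).mp hA' n (Finset.mem_univ _)
    have h2 := (Finset.sum_eq_zero_iff_of_nonneg (fun n' _ => ha0 n n')).mp h1 n (Finset.mem_univ _)
    simp only [a, if_pos (IsConj.refl _)] at h2
    have hpos : (0 : ℝ) <
        (Nat.card (Subgroup.centralizer ({(((n : K) * g : K) : H)} : Set H)) : ℝ) := by
      exact_mod_cast Nat.card_pos
    have h3 : ‖η (n * g)‖ ^ 2 = 0 := by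
      rcases mul_eq_zero.mp h2 with h | h
      · exact h
      · exact absurd h hpos.ne'
    exact norm_eq_zero.mp (pow_eq_zero_iff (two_ne_zero)|>.mp h3)
  exact ((Cfsg.Agent.S4996.result M ⟨η, hη⟩).mpr ⟨g, key⟩) hηM

/-- If `η` and `ψ` are characters of `K` whose restrictions to `M ⊴ K` are orthogonal, then they
are orthogonal on each coset of `M`. -/
theorem sum_coset_eq_zero {K : Type*} [Group K] [Finite K] (M : Subgroup K) [M.Normal] [Fintype M]
    {η ψ : K → ℂ} (hη : IsCharacter K η) (hψ : IsCharacter K ψ)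
    (h0 : classInner (fun n : M => η n) (fun n : M => ψ n) = 0) (g : K) :
    ∑ n : M, η (n * g) * conj (ψ (n * g)) = 0 := by
  have hc : IsCharacter K (navg M (fun k => η k * conj (ψ k))) :=
    navg_isCharacter M (Cfsg.Agent.Lib.Helper20.isCharacter_mul hη
      (Cfsg.Agent.Lib.Helper20.isCharacter_conj hψ))
  have h1 := IsCharacter.eq_zero_of_one_eq_zero hc (by rw [navg_mul_conj_one, h0])
  have h2 := congrFun h1 g
  unfold navg at h2
  have hcard : (Nat.card M : ℂ) ≠ 0 := card_ne_zero_complex'
  rcases mul_eq_zero.mp h2 with h | h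
  · exact absurd (inv_eq_zero.mp h) hcard
  · exact h

end Cfsg.Agent.Lib.Helper79
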