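import Cfsg.Agent.Lib.Helper19.ExtConstr
import Cfsg.Agent.Lib.Helper19.LinChar
import Cfsg.Agent.Lib.Helper79.ExtCyclicChar

set_option autoImplicit false

namespace Cfsg.Agent.Lib.Helper79

open Cfsg Cfsg.Agent.Lib.Helper19

theorem scalU_injective {d : ℕ} (hd : 0 < d) : Function.Injective (scalU d) := by
  intro a b hab
  have h1 := congrArg Units.val hab
  rw [scalU_coe, scalU_coe] at h1
  have h2 := congrFun (congrArg (fun f : EE d => f (fun _ => 1)) h1) ⟨0, hd⟩
  apply Units.ext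
  simpa using h2

/-- Two homomorphisms to `GL_d` which differ by scalars differ by a linear character. -/
theorem exists_scalar_hom {X : Type*} [Group X] {d : ℕ} (hd : 0 < d) (A B : X →* (EE d)ˣ)
    (h : ∀ x, ∃ c : ℂˣ, A x = scalU d c * B x) :
    ∃ ν : X →* ℂˣ, ∀ x, A x = scalU d (ν x) * B x := by
  choose c hc using h
  have hmul : ∀ x y, c (x * y) = c x * c y := by
    intro x y
    apply scalU_injective hd
    have h1 := hc (x * y)
    rw [map_mul, map_mul, hc x, hc y] at h1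
    have h2 : scalU d (c x) * B x * (scalU d (c y) * B y) =
        scalU d (c x * c y) * (B x * B y) := by
      rw [map_mul, mul_assoc, ← mul_assoc (B x), ← scalU_comm, mul_assoc, mul_assoc]
    rw [h2] at h1
    exact (mul_right_cancel h1).symm
  exact ⟨MonoidHom.mk' c hmul, hc⟩

theorem finite_of_ker_finite {X Y : Type*} [Group X] [Group Y] [Finite Y] (f : X →* Y)
    [Finite f.ker] : Finite X := by
  apply Nat.finite_of_card_ne_zero
  rw [← f.ker.card_mul_index, Subgroup.index_ker]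
  exact mul_ne_zero Nat.card_pos.ne' Nat.card_pos.ne'

section hat

variable {G : Type*} [Group G] (N : Subgroup G) [hN : N.Normal] {d : ℕ}
  (ρ : Representation ℂ N (Fin d → ℂ)) (m : G →* ℂˣ)

theorem finite_hatG [Finite G] (hρ : ρ.IsIrreducible) : Finite (hatG N ρ m) := by
  have h1 := card_ker_dvd N ρ m hρ
  have hd := pos_of_irr N ρ hρ
  have h2 : Nat.card (hatPi N ρ m).ker ≠ 0 := by
    intro h0
    rw [h0] at h1
    exact hd.ne' (Nat.eq_zero_of_zero_dvd h1)
  have : Finite (hatPi N ρ m).ker := Nat.finite_of_card_ne_zero h2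
  exact finite_of_ker_finite (hatPi N ρ m)

/-- The second projection. -/
def tauHom : hatG N ρ m →* (EE d)ˣ := (MonoidHom.snd G (EE d)ˣ).comp (hatG N ρ m).subtype

theorem tauHom_apply (x : hatG N ρ m) : tauHom N ρ m x = x.1.2 := rfl

/-- The tautological representation of the hat group. -/
def tauRep : Representation ℂ (hatG N ρ m) (Fin d → ℂ) :=
  (Units.coeHom (EE d)).comp (tauHom N ρ m)

theorem tauRep_apply (x : hatG N ρ m) : tauRep N ρ m x = (x.1.2 : EE d) := rfl

/-- The preimage of `N`. -/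
def hatN : Subgroup (hatG N ρ m) := N.comap (hatPi N ρ m)

instance hatN_normal : (hatN N ρ m).Normal := by
  unfold hatN; infer_instance

/-- The projection `hatN → N`. -/
def hatPiN : hatN N ρ m →* N := (hatPi N ρ m).subgroupComap N

theorem hatPiN_coe (x : hatN N ρ m) : ((hatPiN N ρ m x : N) : G) = x.1.1.1 := rfl

theorem tauHom_hatN_scalar (hρ : ρ.IsIrreducible) (x : hatN N ρ m) :
    ∃ c : ℂˣ, tauHom N ρ m x = scalU d c * ρ.asGroupHom (hatPiN N ρ m x) := by
  have hnt : Nontrivial (Fin d → ℂ) := by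
    have := IsIrreducible.finrank_pos ρ
    exact Module.finrank_pos_iff.mp this
  set t : (EE d)ˣ := tauHom N ρ m x with ht
  set r : (EE d)ˣ := ρ.asGroupHom (hatPiN N ρ m x) with hr
  have h1 : ∀ n : N, t * ρ.asGroupHom n * t⁻¹ = r * ρ.asGroupHom n * r⁻¹ := by
    intro n
    have h0 : r * ρ.asGroupHom n * r⁻¹ =
        ρ.asGroupHom ((hatPiN N ρ m x) * n * (hatPiN N ρ m x)⁻¹) := by
      rw [map_mul, map_mul, map_inv]
    have := x.1.2.1 n
    rw [h0, ht, tauHom_apply, this]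
    congr 1
  have h2 : ∀ n : N, (t * r⁻¹) * ρ.asGroupHom n = ρ.asGroupHom n * (t * r⁻¹) := by
    intro n
    have h3 := h1 ((hatPiN N ρ m x)⁻¹ * n * (hatPiN N ρ m x))
    rw [map_mul, map_mul, map_inv, ← hr] at h3
    have h4 : t * (r⁻¹ * ρ.asGroupHom n * r) = ρ.asGroupHom n * t := by
      have : r * (r⁻¹ * ρ.asGroupHom n * r) * r⁻¹ = ρ.asGroupHom n := by group
      rw [this] at h3
      exact mul_inv_eq_iff_eq_mul.mp h3
    calc (t * r⁻¹) * ρ.asGroupHom n = t * (r⁻¹ * ρ.asGroupHom n * r) * r⁻¹ := by group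
      _ = ρ.asGroupHom n * t * r⁻¹ := by rw [h4]
      _ = _ := by group
  obtain ⟨c, hc⟩ := schur_scalar ρ ((t * r⁻¹ : (EE d)ˣ) : EE d) (by
    intro n
    exact congrArg Units.val (h2 n))
  have hc0 : c ≠ 0 := by
    rintro rfl
    rw [zero_smul] at hc
    exact (t * r⁻¹).ne_zero hc
  refine ⟨Units.mk0 c hc0, ?_⟩
  have h5 : t * r⁻¹ = scalU d (Units.mk0 c hc0) := by
    apply Units.ext
    rw [hc, scalU_coe]
    rfl
  rw [← h5]
  group

/-- More generally: if `ρ` extends to `R` on `P ≥ N`, then over `P` the tautological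
representation differs from `R` by scalars. -/
theorem tauHom_scalar_of_ext (hρ : ρ.IsIrreducible) (P : Subgroup G) (hNP : N ≤ P)
    (R : P →* (EE d)ˣ) (hR : ∀ n : N, R ⟨n, hNP n.2⟩ = ρ.asGroupHom n)
    (x : hatG N ρ m) (hx : x.1.1 ∈ P) :
    ∃ c : ℂˣ, tauHom N ρ m x = scalU d c * R ⟨x.1.1, hx⟩ := by
  have hnt : Nontrivial (Fin d → ℂ) := by
    have := IsIrreducible.finrank_pos ρ
    exact Module.finrank_pos_iff.mp this
  set t : (EE d)ˣ := tauHom N ρ m x with ht
  set g : P := ⟨x.1.1, hx⟩ with hg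
  set r : (EE d)ˣ := R g with hr
  have h2 : ∀ n : N, (t * r⁻¹) * ρ.asGroupHom n = ρ.asGroupHom n * (t * r⁻¹) := by
    intro n
    set n' : N := (MulAut.conjNormal (x.1.1)⁻¹ : MulAut N) n with hn'
    have h3 : r⁻¹ * ρ.asGroupHom n * r = ρ.asGroupHom n' := by
      rw [← hR n, ← hR n', hr, ← map_inv, ← map_mul, ← map_mul]
      congr 1
      apply Subtype.ext
      simp [hn', hg, MulAut.conjNormal_apply]
    have h4 : t * ρ.asGroupHom n' * t⁻¹ = ρ.asGroupHom n := by
      have := x.2.1 n'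
      rw [ht, tauHom_apply, this]
      congr 1
      apply Subtype.ext
      simp [hn', MulAut.conjNormal_apply, mul_assoc]
    calc (t * r⁻¹) * ρ.asGroupHom n = t * (r⁻¹ * ρ.asGroupHom n * r) * r⁻¹ := by group
      _ = (t * ρ.asGroupHom n' * t⁻¹) * t * r⁻¹ := by rw [h3]; group
      _ = _ := by rw [h4]; group
  obtain ⟨c, hc⟩ := schur_scalar ρ ((t * r⁻¹ : (EE d)ˣ) : EE d) (by
    intro n
    exact congrArg Units.val (h2 n))
  have hc0 : c ≠ 0 := by
    rintro rfl
    rw [zero_smul] at hc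
    exact (t * r⁻¹).ne_zero hc
  refine ⟨Units.mk0 c hc0, ?_⟩
  have h5 : t * r⁻¹ = scalU d (Units.mk0 c hc0) := by
    apply Units.ext
    rw [hc, scalU_coe]
    rfl
  rw [← h5]
  group

/-- The linear character `lam` of `hatN` measuring the difference of `tau` and `ρ`. -/
theorem exists_lamHom (hρ : ρ.IsIrreducible) : ∃ lam : hatN N ρ m →* ℂˣ,
    (∀ x : hatN N ρ m, tauHom N ρ m x = scalU d (lam x) * ρ.asGroupHom (hatPiN N ρ m x)) ∧
    (∀ (y : hatG N ρ m) (x : hatN N ρ m),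
      lam ⟨y * x * y⁻¹, (hatN_normal N ρ m).conj_mem x x.2 y⟩ = lam x) := by
  have hd := pos_of_irr N ρ hρ
  obtain ⟨lam, hlam⟩ := exists_scalar_hom hd ((tauHom N ρ m).comp (hatN N ρ m).subtype)
    (ρ.asGroupHom.comp (hatPiN N ρ m)) (fun x => tauHom_hatN_scalar N ρ m hρ x)
  refine ⟨lam, hlam, ?_⟩
  intro y x
  apply scalU_injective hd
  have h1 := hlam ⟨y * x * y⁻¹, (hatN_normal N ρ m).conj_mem x x.2 y⟩
  have h2 := hlam x
  simp only [MonoidHom.comp_apply, Subgroup.coe_subtype] at h1 h2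
  rw [map_mul, map_mul, map_inv, h2] at h1
  have h3 := y.2.1 (hatPiN N ρ m x)
  have h4 : ρ.asGroupHom (hatPiN N ρ m ⟨y * x * y⁻¹, (hatN_normal N ρ m).conj_mem x x.2 y⟩) =
      ρ.asGroupHom ((MulAut.conjNormal y.1.1 : MulAut N) (hatPiN N ρ m x)) := by
    congr 1
  rw [h4, ← h3, tauHom_apply] at h1
  have h5 : y.1.2 * (scalU d (lam x) * ρ.asGroupHom (hatPiN N ρ m x)) * (y.1.2)⁻¹ =
      scalU d (lam x) * (y.1.2 * ρ.asGroupHom (hatPiN N ρ m x) * (y.1.2)⁻¹) := by
    rw [← mul_assoc, ← scalU_comm]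
    group
  rw [h5] at h1
  exact (mul_right_cancel h1).symm

end hat

/-- Irreducibility transfers along "same operators up to scalars". -/
theorem isIrreducible_of_forall_exists_smul {X Y V : Type*} [Group X] [Group Y] [AddCommGroup V]
    [Module ℂ V] (σ : Representation ℂ X V) (ρ : Representation ℂ Y V)
    (h : ∀ y : Y, ∃ (x : X) (c : ℂ), ρ y = c • σ x) (hρ : ρ.IsIrreducible) :
    σ.IsIrreducible := by
  have hnt : Nontrivial (Subrepresentation σ) := by
    refine ⟨⊥, ⊤, ?_⟩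
    intro hbt
    have h1 : (⊥ : Subrepresentation ρ) ≠ ⊤ := bot_ne_top
    apply h1
    apply Subrepresentation.toSubmodule_injective
    have := congrArg Subrepresentation.toSubmodule hbt
    exact this
  refine { toNontrivial := hnt, eq_bot_or_eq_top := ?_ }
  intro τ
  let τ' : Subrepresentation ρ := ⟨τ.toSubmodule, fun y v hv => by
    obtain ⟨x, c, hxc⟩ := h y
    rw [hxc]
    exact τ.toSubmodule.smul_mem c (τ.apply_mem_toSubmodule x hv)⟩
  rcases hρ.eq_bot_or_eq_top τ' with h1 | h1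
  · left
    apply Subrepresentation.toSubmodule_injective
    have := congrArg Subrepresentation.toSubmodule h1
    exact this
  · right
    apply Subrepresentation.toSubmodule_injective
    have := congrArg Subrepresentation.toSubmodule h1
    exact this

/-- A character of `X` whose pull-back along `ι : Y → X` is the character of `ρ` is afforded by a
representation whose pull-back is exactly `ρ`. -/
theorem exists_rep_ext_of_char_ext {X Y : Type*} [Group X] [Group Y] [Finite Y] (ι : Y →* X)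
    {d : ℕ} (ρ : Representation ℂ Y (Fin d → ℂ)) (η : X → ℂ) (hη : IsCharacter X η)
    (h : ∀ y : Y, η (ι y) = ρ.character y) :
    ∃ R : X →* (EE d)ˣ, (∀ y : Y, R (ι y) = ρ.asGroupHom y) ∧
      ∀ x, η x = LinearMap.trace ℂ (Fin d → ℂ) (R x : EE d) := by
  obtain ⟨d', R₀, rfl⟩ := hη
  have hdd : d' = d := by
    have h1 := h 1
    rw [map_one, Representation.char_one, Representation.char_one] at h1
    simpa using h1
  subst hdd
  let σ : Representation ℂ Y (Fin d' → ℂ) := MonoidHom.comp R₀ ι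
  have hchar : σ.character = ρ.character := funext h
  obtain ⟨φ⟩ := Cfsg.Agent.S0153.result σ ρ hchar
  let Φ : (EE d')ˣ := LinearMap.GeneralLinearGroup.ofLinearEquiv φ.toLinearEquiv
  refine ⟨(MulAut.conj Φ).toMonoidHom.comp R₀.asGroupHom, ?_, ?_⟩
  · intro y
    show Φ * R₀.asGroupHom (ι y) * Φ⁻¹ = ρ.asGroupHom y
    apply Units.ext
    have h1 := φ.conj_apply_self y
    rw [Representation.asGroupHom_apply, ← h1]
    rfl
  · intro x
    show LinearMap.trace ℂ _ (R₀ x) =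
      LinearMap.trace ℂ _ ((Φ * R₀.asGroupHom x * Φ⁻¹ : (EE d')ˣ) : EE d')
    rw [Units.val_mul, Units.val_mul, LinearMap.trace_mul_comm, ← mul_assoc, ← Units.val_mul]
    simp only [inv_mul_cancel, Units.val_one, one_mul]
    rfl

section hat2

variable {G : Type*} [Group G] [Finite G] (N : Subgroup G) [hN : N.Normal] {d : ℕ}
  (ρ : Representation ℂ N (Fin d → ℂ)) (m : G →* ℂˣ)

theorem exists_hatN_over (hρ : ρ.IsIrreducible)
    (hinv : ∀ (g : G) (n : N), ρ.character (MulAut.conjNormal g n) = ρ.character n) (n : N) :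
    ∃ x : hatN N ρ m, hatPiN N ρ m x = n := by
  obtain ⟨x, hx⟩ := hatPi_surjective N ρ m hρ hinv (n : G)
  have hxN : x ∈ hatN N ρ m := by
    show hatPi N ρ m x ∈ N
    rw [hx]; exact n.2
  exact ⟨⟨x, hxN⟩, Subtype.ext hx⟩

theorem tauRep_isIrreducible (hρ : ρ.IsIrreducible)
    (hinv : ∀ (g : G) (n : N), ρ.character (MulAut.conjNormal g n) = ρ.character n) :
    (tauRep N ρ m).IsIrreducible := by
  apply isIrreducible_of_forall_exists_smul (tauRep N ρ m) ρ _ hρ
  intro n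
  obtain ⟨x, hx⟩ := exists_hatN_over N ρ m hρ hinv n
  obtain ⟨c, hc⟩ := tauHom_hatN_scalar N ρ m hρ x
  refine ⟨x, ((c⁻¹ : ℂˣ) : ℂ), ?_⟩
  rw [hx] at hc
  have h2 := congrArg Units.val hc
  rw [Units.val_mul, scalU_coe] at h2
  have h3 : tauRep N ρ m (x : hatG N ρ m) = (c : ℂ) • ρ n := by
    show ((tauHom N ρ m x : (EE d)ˣ) : EE d) = _
    rw [h2]
    simp only [smul_mul_assoc, one_mul]
    rfl
  rw [h3, smul_smul]
  simp

theorem exists_ext_of_lam_ext (hρ : ρ.IsIrreducible)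
    (hinv : ∀ (g : G) (n : N), ρ.character (MulAut.conjNormal g n) = ρ.character n)
    (lam : hatN N ρ m →* ℂˣ)
    (hlam : ∀ x : hatN N ρ m, tauHom N ρ m x = scalU d (lam x) * ρ.asGroupHom (hatPiN N ρ m x))
    (μ : hatG N ρ m →* ℂˣ) (hμ : ∀ x : hatN N ρ m, μ x = lam x) :
    ∃ R : Representation ℂ G (Fin d → ℂ), ∀ n : N, R n = ρ n := by
  let F : hatG N ρ m →* (EE d)ˣ :=
    MonoidHom.mk' (fun x => scalU d (μ x)⁻¹ * tauHom N ρ m x) (by
      intro x y
      rw [map_mul, map_mul, mul_inv, map_mul, mul_assoc, mul_assoc,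
        ← mul_assoc (scalU d (μ y)⁻¹), scalU_comm (μ y)⁻¹ (tauHom N ρ m x), mul_assoc])
  have hF : ∀ x, F x = scalU d (μ x)⁻¹ * tauHom N ρ m x := fun x => rfl
  have hFN : ∀ x : hatN N ρ m, F x = ρ.asGroupHom (hatPiN N ρ m x) := by
    intro x
    rw [hF, hlam x, hμ x, ← mul_assoc, ← map_mul]
    simp
  have hker : (hatPi N ρ m).ker ≤ F.ker := by
    intro x hx
    have hxN : x ∈ hatN N ρ m := by
      show hatPi N ρ m x ∈ N
      rw [MonoidHom.mem_ker.mp hx]; exact N.one_mem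
    rw [MonoidHom.mem_ker]
    have h2 : hatPiN N ρ m ⟨x, hxN⟩ = 1 := Subtype.ext (MonoidHom.mem_ker.mp hx)
    have h1 := hFN ⟨x, hxN⟩
    rw [h2, map_one] at h1
    exact h1
  let R0 : G →* (EE d)ˣ :=
    (hatPi N ρ m).liftOfSurjective (hatPi_surjective N ρ m hρ hinv) ⟨F, hker⟩
  have hR0 : ∀ x, R0 (hatPi N ρ m x) = F x := fun x =>
    MonoidHom.liftOfRightInverse_comp_apply _ _ _ ⟨F, hker⟩ x
  refine ⟨(Units.coeHom _).comp R0, ?_⟩
  intro n
  obtain ⟨x, hx⟩ := exists_hatN_over N ρ m hρ hinv n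
  have h1 : (n : G) = hatPi N ρ m (x : hatG N ρ m) := by
    rw [← hx]; rfl
  show ((R0 (n : G) : (EE d)ˣ) : EE d) = ρ n
  rw [h1, hR0, hFN, hx]
  rfl

omit [Finite G] in
/-- If `ρ` extends to `P ≥ N` then `lam` extends to the preimage of `P`. -/
theorem exists_nu_of_ext (hρ : ρ.IsIrreducible) (lam : hatN N ρ m →* ℂˣ)
    (hlam : ∀ x : hatN N ρ m, tauHom N ρ m x = scalU d (lam x) * ρ.asGroupHom (hatPiN N ρ m x))
    (P : Subgroup G) (hNP : N ≤ P)
    (R : P →* (EE d)ˣ) (hR : ∀ n : N, R ⟨n, hNP n.2⟩ = ρ.asGroupHom n) :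
    ∃ ν : (P.comap (hatPi N ρ m) : Subgroup (hatG N ρ m)) →* ℂˣ,
      ∀ (x : hatN N ρ m), ν ⟨x, hNP x.2⟩ = lam x := by
  have hd := pos_of_irr N ρ hρ
  obtain ⟨ν, hν⟩ := exists_scalar_hom hd
    ((tauHom N ρ m).comp (P.comap (hatPi N ρ m) : Subgroup (hatG N ρ m)).subtype)
    (R.comp ((hatPi N ρ m).subgroupComap P))
    (fun x => tauHom_scalar_of_ext N ρ m hρ P hNP R hR x x.2)
  refine ⟨ν, ?_⟩
  intro x
  apply scalU_injective hd
  have h1 := hν ⟨x, hNP x.2⟩
  have h2 := hlam x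
  simp only [MonoidHom.comp_apply, Subgroup.coe_subtype] at h1
  rw [h2] at h1
  have h3 : R (((hatPi N ρ m).subgroupComap P) ⟨x, hNP x.2⟩) =
      ρ.asGroupHom (hatPiN N ρ m x) := by
    rw [← hR]
    rfl
  rw [h3] at h1
  exact (mul_right_cancel h1).symm

end hat2

end Cfsg.Agent.Lib.Helper79
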