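import Cfsg.Agent.Lib.Helper79.TorsorFix
import Cfsg.Agent.Lib.Helper79.LinTwist

set_option autoImplicit false

namespace Cfsg.Agent.Lib.Helper79

open Cfsg ComplexConjugate Cfsg.Agent.Lib.Helper19 Cfsg.Agent.Lib.Helper20 Cfsg.Agent.Lib.Helper82

section amb

variable {Γ : Type*} [Group Γ]

/-- `f` (a function on the subgroup `H`) is invariant under conjugation by the elements of `S`. -/
def ConjInv (S H : Subgroup Γ) (f : H → ℂ) : Prop :=
  ∀ s ∈ S, ∀ g g' : H, (g' : Γ) = s * g * s⁻¹ → f g' = f g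

/-- Restriction of a function to a smaller subgroup. -/
def resTo {H K : Subgroup Γ} (h : H ≤ K) (f : K → ℂ) : H → ℂ := fun x => f ⟨x, h x.2⟩

theorem resTo_apply {H K : Subgroup Γ} (h : H ≤ K) (f : K → ℂ) (x : H) :
    resTo h f x = f ⟨x, h x.2⟩ := rfl

/-- The conjugation action of a subgroup `S` normalizing `H`. -/
def conjAut (S H : Subgroup Γ) (hn : ∀ s ∈ S, ∀ g ∈ H, s * g * s⁻¹ ∈ H) : S →* MulAut H where
  toFun s :=
    { toFun := fun g => ⟨s * g * s⁻¹, hn s s.2 g g.2⟩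
      invFun := fun g => ⟨s⁻¹ * g * s, by simpa using hn s⁻¹ (S.inv_mem s.2) g g.2⟩
      left_inv := by intro g; apply Subtype.ext; simp [mul_assoc]
      right_inv := by intro g; apply Subtype.ext; simp [mul_assoc]
      map_mul' := by intro g h; apply Subtype.ext; simp [mul_assoc] }
  map_one' := by ext g; simp
  map_mul' := by intro s u; ext g; simp [mul_assoc]

theorem conjAut_apply_coe (S H : Subgroup Γ) (hn : ∀ s ∈ S, ∀ g ∈ H, s * g * s⁻¹ ∈ H) (s : S)
    (g : H) : ((conjAut S H hn s g : H) : Γ) = s * g * s⁻¹ := rfl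

theorem conjInv_iff (S H : Subgroup Γ) (hn : ∀ s ∈ S, ∀ g ∈ H, s * g * s⁻¹ ∈ H) (f : H → ℂ) :
    ConjInv S H f ↔ ∀ (s : S) (g : H), f (conjAut S H hn s g) = f g := by
  constructor
  · intro h s g
    exact h s s.2 g _ rfl
  · intro h s hs g g' hg
    have : g' = conjAut S H hn ⟨s, hs⟩ g := Subtype.ext hg
    rw [this, h]

/-- **Abelian step.**  If `G/M` is abelian and `|S : S ∩ M|` is prime to `|G : M|`, every
`S`-invariant irreducible character of `M` lies under an `S`-invariant one of `G`. -/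
theorem exists_inv_over_of_abelian [Finite Γ] (S G M : Subgroup Γ)
    (hSG : ∀ s ∈ S, ∀ g ∈ G, s * g * s⁻¹ ∈ G) (hSM : ∀ s ∈ S, ∀ g ∈ M, s * g * s⁻¹ ∈ M)
    (hMG : M ≤ G) (hGM : ∀ g ∈ G, ∀ m ∈ M, g * m * g⁻¹ ∈ M)
    (hab : ∀ x ∈ G, ∀ y ∈ G, x * y * x⁻¹ * y⁻¹ ∈ M)
    [Fintype M] (η : M → ℂ) (hη : IsIrrCharacter M η) (hinv : ConjInv S M η)
    (hcop : Nat.Coprime (M.relIndex S) (M.relIndex G)) :
    ∃ χ : G → ℂ, IsIrrCharacter G χ ∧ classInner (resTo hMG χ) η ≠ 0 ∧ ConjInv S G χ := by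
  classical
  have := Fintype.ofFinite G
  let M' : Subgroup G := M.subgroupOf G
  have hM'n : M'.Normal := ⟨fun m hm g => hGM g g.2 m hm⟩
  have := Fintype.ofFinite M'
  let e : M' ≃* M := Subgroup.subgroupOfEquivOfLe hMG
  have hη' : IsIrrCharacter M' (η ∘ e) := isIrr_comp_surj hη e.toMonoidHom e.surjective
  have hover : ∀ χ ψ : G → ℂ, classInner (fun n : M' => χ n) (fun n : M' => ψ n) =
      classInner (resTo hMG χ) (resTo hMG ψ) :=
    fun χ ψ => Cfsg.Agent.Lib.Helper5.classInner_comp_equiv e (resTo hMG χ) (resTo hMG ψ)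
  have hover' : ∀ χ : G → ℂ, classInner (fun n : M' => χ n) (η ∘ e) =
      classInner (resTo hMG χ) η :=
    fun χ => Cfsg.Agent.Lib.Helper5.classInner_comp_equiv e (resTo hMG χ) η
  let κG := conjAut S G hSG
  let κM := conjAut S M hSM
  let Ω := {χ : G → ℂ // IsIrrCharacter G χ ∧ classInner (resTo hMG χ) η ≠ 0}
  let A : Subgroup (G →* ℂˣ) :=
    { carrier := {a | ∀ g : G, (g : Γ) ∈ M → a g = 1}
      one_mem' := fun g _ => rfl
      mul_mem' := by
        intro a b ha hb g hg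
        rw [MonoidHom.mul_apply, ha g hg, hb g hg, one_mul]
      inv_mem' := by
        intro a ha g hg
        rw [MonoidHom.inv_apply, ha g hg, inv_one] }
  let actA : S → A →* A := fun s =>
    { toFun := fun a => ⟨a.1.comp (κG s⁻¹).toMonoidHom, fun g hg =>
        a.2 (κG s⁻¹ g) (hSM (s⁻¹ : S) (s⁻¹ : S).2 g hg)⟩
      map_one' := rfl
      map_mul' := fun a b => rfl }
  let actΩ : S → Ω → Ω := fun s χ =>
    ⟨fun g => χ.1 (κG s⁻¹ g),
      isIrr_comp_surj χ.2.1 (κG s⁻¹).toMonoidHom (κG s⁻¹).surjective, by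
      have e1 : resTo hMG (fun g => χ.1 (κG s⁻¹ g)) = (resTo hMG χ.1) ∘ (κM s⁻¹) := rfl
      have e2 : η ∘ (κM s⁻¹) = η := funext fun m => (conjInv_iff S M hSM η).1 hinv s⁻¹ m
      have e3 := Cfsg.Agent.Lib.Helper5.classInner_comp_equiv (κM s⁻¹) (resTo hMG χ.1) η
      rw [e2] at e3
      rw [e1, e3]
      exact χ.2.2⟩
  let mulΩ : A → Ω → Ω := fun a χ =>
    ⟨homFun a.1 * χ.1,
      isIrr_linear_mul (isCharacter_homFun a.1).1 (isCharacter_homFun a.1).2 χ.2.1, by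
      have e1 : resTo hMG (homFun a.1 * χ.1) = resTo hMG χ.1 := by
        funext m
        show ((a.1 ⟨m, hMG m.2⟩ : ℂˣ) : ℂ) * χ.1 ⟨m, hMG m.2⟩ = χ.1 ⟨m, hMG m.2⟩
        rw [a.2 ⟨m, hMG m.2⟩ m.2]
        simp
      rw [e1]
      exact χ.2.2⟩
  obtain ⟨χ₀, hχ₀, hχ₀η⟩ := exists_irr_over M' hη'
  rw [hover'] at hχ₀η
  let ω₀ : Ω := ⟨χ₀, hχ₀, hχ₀η⟩
  obtain ⟨ω, hω⟩ := exists_fixed_point_of_torsor actA actΩ mulΩ
    (by
      intro s u ω
      apply Subtype.ext
      funext g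
      show ω.1 (κG (s * u)⁻¹ g) = ω.1 (κG u⁻¹ (κG s⁻¹ g))
      rw [mul_inv_rev, map_mul]
      rfl)
    (by
      intro ω
      apply Subtype.ext
      funext g
      show (((1 : G →* ℂˣ) g : ℂˣ) : ℂ) * ω.1 g = ω.1 g
      simp)
    (by
      intro a b ω
      apply Subtype.ext
      funext g
      show (((a.1 * b.1) g : ℂˣ) : ℂ) * ω.1 g = ((a.1 g : ℂˣ) : ℂ) * (((b.1 g : ℂˣ) : ℂ) * ω.1 g)
      rw [MonoidHom.mul_apply, Units.val_mul, mul_assoc])
    (by
      intro s a ω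
      rfl)
    (by
      intro ω ω'
      have hne : classInner (fun n : M' => ω'.1 n) (fun n : M' => ω.1 n) ≠ 0 := by
        apply classInner_ne_zero_of_common
          (isCharacter_restrict (isCharacter_of_isIrrCharacter ω'.2.1) M')
          (isCharacter_restrict (isCharacter_of_isIrrCharacter ω.2.1) M') hη'
        · rw [hover']; exact ω'.2.2
        · rw [hover']; exact ω.2.2
      obtain ⟨a, ha1, ha2⟩ := exists_linear_twist M' (fun x y => hab x x.2 y y.2) ω.2.1 ω'.2.1 hne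
      refine ⟨⟨a, fun g hg => ha1 g hg⟩, ?_⟩
      apply Subtype.ext
      funext g
      exact (ha2 g).symm)
    ω₀ (M.subgroupOf S)
    (by
      intro s hs
      apply Subtype.ext
      funext g
      show χ₀ (κG s⁻¹ g) = χ₀ g
      have hsG : (s : Γ) ∈ G := hMG hs
      have e3 : κG s⁻¹ g = (⟨s, hsG⟩ : G)⁻¹ * g * ((⟨s, hsG⟩ : G)⁻¹)⁻¹ := by
        apply Subtype.ext
        rfl
      rw [e3]
      exact isClassFunction_of_isCharacter (isCharacter_of_isIrrCharacter hχ₀) _ _)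
    (M.relIndex G)
    (by
      intro a
      apply Subtype.ext
      ext g
      show (((a.1 ^ (M.relIndex G)) g : ℂˣ) : ℂ) = 1
      rw [MonoidHom.pow_apply, ← map_pow, a.2 (g ^ M.relIndex G) (M'.pow_index_mem g)]
      rfl)
    hcop
  refine ⟨ω.1, ω.2.1, ω.2.2, ?_⟩
  rw [conjInv_iff S G hSG]
  intro s g
  have := congrFun (congrArg Subtype.val (hω s⁻¹)) g
  rw [← this]
  show ω.1 (κG s g) = ω.1 (κG (s⁻¹)⁻¹ g)
  rw [inv_inv]

end amb

end Cfsg.Agent.Lib.Helper79
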