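import Cfsg.Agent.Lib.Helper79.InvAbove

set_option autoImplicit false

namespace Cfsg.Agent.Lib.Helper79

open Cfsg ComplexConjugate Cfsg.Agent.Lib.Helper19 Cfsg.Agent.Lib.Helper20 Cfsg.Agent.Lib.Helper82
open scoped commutatorElement

section amb

variable {Γ : Type*} [Group Γ]

theorem isCharacter_resTo {H K : Subgroup Γ} (h : H ≤ K) {f : K → ℂ} (hf : IsCharacter K f) :
    IsCharacter H (resTo h f) :=
  isCharacter_comp_hom hf (Subgroup.inclusion h)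

/-- Transitivity of "lies over". -/
theorem over_trans {N M G : Subgroup Γ} [Fintype N] [Fintype M] (hNM : N ≤ M) (hMG : M ≤ G)
    {χ : G → ℂ} {η : M → ℂ} {θ : N → ℂ} (hχ : IsCharacter G χ) (hη : IsIrrCharacter M η)
    (hθ : IsIrrCharacter N θ) (h1 : classInner (resTo hMG χ) η ≠ 0)
    (h2 : classInner (resTo hNM η) θ ≠ 0) : classInner (resTo (hNM.trans hMG) χ) θ ≠ 0 := by
  obtain ⟨Δ, hΔ, e⟩ := Cfsg.Agent.Lib.Helper5.exists_add_of_constituent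
    (isCharacter_resTo hMG hχ) hη h1
  have e1 : resTo (hNM.trans hMG) χ = resTo hNM η + resTo hNM Δ := by
    have : resTo (hNM.trans hMG) χ = resTo hNM (resTo hMG χ) := rfl
    rw [this, e]
    rfl
  obtain ⟨a, ha⟩ := isCharacter_classInner_nat (isCharacter_resTo hNM (isCharacter_of_isIrrCharacter hη)) hθ
  obtain ⟨b, hb⟩ := isCharacter_classInner_nat (isCharacter_resTo hNM hΔ) hθ
  rw [e1, classInner_add_left, ha, hb]
  rw [ha] at h2
  have : a ≠ 0 := by exact_mod_cast h2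
  have : a + b ≠ 0 := by omega
  exact_mod_cast this

theorem conj_mem_sup_commutator {T G N : Subgroup Γ}
    (hTG : ∀ s ∈ T, ∀ g ∈ G, s * g * s⁻¹ ∈ G) (hTN : ∀ s ∈ T, ∀ g ∈ N, s * g * s⁻¹ ∈ N) :
    ∀ s ∈ T, ∀ g ∈ N ⊔ ⁅G, G⁆, s * g * s⁻¹ ∈ N ⊔ ⁅G, G⁆ := by
  intro s hs g hg
  have h1 : (N ⊔ ⁅G, G⁆).map (MulAut.conj s).toMonoidHom ≤ N ⊔ ⁅G, G⁆ := by
    rw [Subgroup.map_sup, Subgroup.map_commutator]
    have hN : N.map (MulAut.conj s).toMonoidHom ≤ N := by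
      rintro _ ⟨n, hn, rfl⟩
      exact hTN s hs n hn
    have hG : G.map (MulAut.conj s).toMonoidHom ≤ G := by
      rintro _ ⟨n, hn, rfl⟩
      exact hTG s hs n hn
    exact sup_le_sup hN (Subgroup.commutator_mono hG hG)
  exact h1 ⟨g, hg, rfl⟩

/-- **Solvable upper layer.**  `G/N` solvable (phrased inside the ambient group), `|S : S ∩ N|`
prime to `|G : N|`: every `S`-invariant `θ ∈ Irr(N)` lies under an `S`-invariant `χ ∈ Irr(G)`. -/
theorem exists_inv_over_of_solvable_aux [Finite Γ] (S N : Subgroup Γ)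
    (hSN : ∀ s ∈ S, ∀ g ∈ N, s * g * s⁻¹ ∈ N)
    [Fintype N] (θ : N → ℂ) (hθ : IsIrrCharacter N θ) (hinv : ConjInv S N θ) :
    ∀ (k : ℕ) (G : Subgroup Γ), Nat.card G ≤ k →
    (∀ s ∈ S, ∀ g ∈ G, s * g * s⁻¹ ∈ G) → ∀ (hNG : N ≤ G),
    (∀ g ∈ G, ∀ m ∈ N, g * m * g⁻¹ ∈ N) →
    (∀ H : Subgroup Γ, H ≤ G → H ≤ N ⊔ ⁅H, H⁆ → H ≤ N) →
    Nat.Coprime (N.relIndex S) (N.relIndex G) →
    ∃ χ : G → ℂ, IsIrrCharacter G χ ∧ classInner (resTo hNG χ) θ ≠ 0 ∧ ConjInv S G χ := by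
  classical
  intro k
  induction k with
  | zero =>
    intro G hk
    exact absurd hk (by have := Nat.card_pos (α := G); omega)
  | succ k ih =>
    intro G hk hSG hNG hGN hsolv hcop
    set G₁ : Subgroup Γ := N ⊔ ⁅G, G⁆ with hG₁
    have hNG₁ : N ≤ G₁ := le_sup_left
    have hG₁G : G₁ ≤ G := sup_le hNG (Subgroup.le_normalizer_iff_commutator_le_left.1 Subgroup.le_normalizer)
    by_cases hEq : G ≤ G₁
    · have hGN' : G ≤ N := hsolv G le_rfl hEq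
      obtain rfl : G = N := le_antisymm hGN' hNG
      refine ⟨θ, hθ, ?_, hinv⟩
      have : resTo hNG θ = θ := rfl
      rw [this, classInner_irr_self hθ]
      exact one_ne_zero
    · have hlt : G₁ < G := lt_of_le_of_ne hG₁G (fun h => hEq h.ge)
      have hcard : Nat.card G₁ < Nat.card G := by
        exact Set.ncard_lt_ncard (s := (G₁ : Set Γ)) (t := (G : Set Γ)) hlt (Set.toFinite _)
      have hr := Subgroup.relIndex_mul_relIndex N G₁ G hNG₁ hG₁G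
      have := Fintype.ofFinite G₁
      obtain ⟨η, hη, hηθ, hηinv⟩ := ih G₁ (by omega) (conj_mem_sup_commutator hSG hSN) hNG₁
        (fun g hg => hGN g (hG₁G hg)) (fun H hH => hsolv H (hH.trans hG₁G))
        (hcop.coprime_dvd_right (Dvd.intro _ hr))
      obtain ⟨χ, hχ, hχη, hχinv⟩ := exists_inv_over_of_abelian S G G₁ hSG
        (conj_mem_sup_commutator hSG hSN) hG₁G
        (conj_mem_sup_commutator (fun s hs g hg => G.mul_mem (G.mul_mem hs hg) (G.inv_mem hs)) hGN)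
        (fun x hx y hy => by
          have := Subgroup.commutator_mem_commutator hx hy
          rw [commutatorElement_def] at this
          exact (le_sup_right : ⁅G, G⁆ ≤ G₁) this)
        η hη hηinv
        ((hcop.coprime_dvd_right (Dvd.intro_left _ hr)).coprime_dvd_left
          (Subgroup.relIndex_dvd_of_le_left S hNG₁))
      exact ⟨χ, hχ, over_trans hNG₁ hG₁G (isCharacter_of_isIrrCharacter hχ) hη hθ hχη hηθ, hχinv⟩

/-- Ambient form of solvability of `G/N`. -/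
theorem le_of_le_sup_commutator {G N : Subgroup Γ} (hNG : N ≤ G) {Q : Type*} [Group Q]
    [Group.IsSolvable Q] (f : G →* Q) (hf : ∀ g : G, f g = 1 ↔ (g : Γ) ∈ N) :
    ∀ H : Subgroup Γ, H ≤ G → H ≤ N ⊔ ⁅H, H⁆ → H ≤ N := by
  intro H hHG hH
  set Hb : Subgroup Q := (H.subgroupOf G).map f with hHb
  set K : Subgroup Γ := ((⁅Hb, Hb⁆).comap f).map G.subtype with hK
  have h1 : N ≤ K := by
    intro n hn
    refine ⟨⟨n, hNG hn⟩, ?_, rfl⟩
    show f ⟨n, hNG hn⟩ ∈ ⁅Hb, Hb⁆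
    rw [(hf ⟨n, hNG hn⟩).2 hn]
    exact Subgroup.one_mem _
  have h2 : ⁅H, H⁆ ≤ K := by
    rw [Subgroup.commutator_le]
    intro x hx y hy
    refine ⟨⁅(⟨x, hHG hx⟩ : G), ⟨y, hHG hy⟩⁆, ?_, rfl⟩
    show f ⁅(⟨x, hHG hx⟩ : G), ⟨y, hHG hy⟩⁆ ∈ ⁅Hb, Hb⁆
    rw [map_commutatorElement]
    exact Subgroup.commutator_mem_commutator ⟨⟨x, hHG hx⟩, hx, rfl⟩ ⟨⟨y, hHG hy⟩, hy, rfl⟩
  have h3 : Hb ≤ ⁅Hb, Hb⁆ := by
    rintro _ ⟨x, hx, rfl⟩
    obtain ⟨y, hy, hyx⟩ := (sup_le h1 h2) (hH hx)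
    have : y = x := Subtype.ext hyx
    rw [← this]
    exact hy
  have h4 : Hb = ⊥ := by
    by_contra hne
    exact absurd h3 (not_le_of_gt (Group.IsSolvable.commutator_lt_of_ne_bot hne))
  intro h hh
  have : f ⟨h, hHG hh⟩ ∈ Hb := ⟨⟨h, hHG hh⟩, hh, rfl⟩
  rw [h4, Subgroup.mem_bot] at this
  exact (hf _).1 this

/-- **Solvable upper layer.** -/
theorem exists_inv_over_of_solvable [Finite Γ] (S G N : Subgroup Γ)
    (hSG : ∀ s ∈ S, ∀ g ∈ G, s * g * s⁻¹ ∈ G) (hSN : ∀ s ∈ S, ∀ g ∈ N, s * g * s⁻¹ ∈ N)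
    (hNG : N ≤ G) (hGN : ∀ g ∈ G, ∀ m ∈ N, g * m * g⁻¹ ∈ N)
    {Q : Type*} [Group Q] [Group.IsSolvable Q] (f : G →* Q) (hf : ∀ g : G, f g = 1 ↔ (g : Γ) ∈ N)
    [Fintype N] (θ : N → ℂ) (hθ : IsIrrCharacter N θ) (hinv : ConjInv S N θ)
    (hcop : Nat.Coprime (N.relIndex S) (N.relIndex G)) :
    ∃ χ : G → ℂ, IsIrrCharacter G χ ∧ classInner (resTo hNG χ) θ ≠ 0 ∧ ConjInv S G χ :=
  exists_inv_over_of_solvable_aux S N hSN θ hθ hinv _ G le_rfl hSG hNG hGN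
    (le_of_le_sup_commutator hNG f hf) hcop

end amb

end Cfsg.Agent.Lib.Helper79
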