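import Mathlib

/-! # Derived length of finite linear `p`-groups -/

set_option autoImplicit false

namespace Cfsg.Agent.Lib.Helper79.LPG

open Module

universe u v w

variable {K : Type w} [Field K] {G : Type u} [Group G] {V : Type v} [AddCommGroup V] [Module K V]

/-- restriction to an invariant subspace. -/
def resU (ρ : G →* Module.End K V) (U : Submodule K V) (h : ∀ g, ∀ y ∈ U, ρ g y ∈ U) :
    G →* Module.End K U where
  toFun x := (ρ x).restrict (h x)
  map_one' := by ext; simp
  map_mul' := by intro a b; ext; simp

theorem resU_apply (ρ : G →* Module.End K V) (U : Submodule K V) (h) (x : G) (y : U) :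
    ((resU ρ U h x) y : V) = ρ x y := rfl

/-- action on the quotient by an invariant subspace. -/
def quoU (ρ : G →* Module.End K V) (U : Submodule K V) (h : ∀ g, ∀ y ∈ U, ρ g y ∈ U) :
    G →* Module.End K (V ⧸ U) where
  toFun x := U.mapQ U (ρ x) (fun y hy => h x y hy)
  map_one' := by
    ext y
    simp
  map_mul' := by
    intro a b
    ext y
    simp

theorem quoU_mk (ρ : G →* Module.End K V) (U : Submodule K V) (h) (x : G) (y : V) :
    (quoU ρ U h x) (U.mkQ y) = U.mkQ (ρ x y) := rfl

theorem derived_shift (M : Subgroup G) (hM : commutator G ≤ M) (k : ℕ) :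
    derivedSeries G (k + 1) ≤ (derivedSeries M k).map M.subtype := by
  induction k with
  | zero =>
    rw [derivedSeries_succ, derivedSeries_zero, derivedSeries_zero]
    intro x hx
    exact ⟨⟨x, hM hx⟩, trivial, rfl⟩
  | succ k ih =>
    rw [derivedSeries_succ, derivedSeries_succ (G := M), Subgroup.map_commutator]
    exact Subgroup.commutator_mono ih ih

theorem inv_left (ρ : G →* Module.End K V) (g : G) : ρ g⁻¹ * ρ g = 1 := by
  rw [← map_mul, inv_mul_cancel, map_one]

theorem inv_right (ρ : G →* Module.End K V) (g : G) : ρ g * ρ g⁻¹ = 1 := by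
  rw [← map_mul, mul_inv_cancel, map_one]

/-- a finite `p`-group acting on a nonzero space in characteristic `p` fixes a nonzero vector. -/
theorem exists_fixed (p : ℕ) [hp : Fact p.Prime] [CharP K p] (c : ℕ) :
    ∀ (P : Type u) [Group P] [Finite P], Nat.card P = c → IsPGroup p P →
      ∀ (V : Type v) [AddCommGroup V] [Module K V] [Nontrivial V] (ρ : P →* Module.End K V),
        ∃ y : V, y ≠ 0 ∧ ∀ g, ρ g y = y := by
  induction c using Nat.strong_induction_on with
  | _ c ih =>
  intro P _ _ hc hP V _ _ _ ρ
  by_cases hnt : Nontrivial P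
  swap
  · rw [not_nontrivial_iff_subsingleton] at hnt
    obtain ⟨y, hy⟩ := exists_ne (0 : V)
    refine ⟨y, hy, fun g => ?_⟩
    rw [Subsingleton.elim g 1, map_one, Module.End.one_apply]
  haveI := hP.center_nontrivial
  obtain ⟨z, hz⟩ := exists_ne (1 : Subgroup.center P)
  obtain ⟨k, hk⟩ := hP (z : P)
  have hzc : ∀ g, (z : P) * g = g * z := fun g => (Subgroup.mem_center_iff.mp z.2 g).symm
  let U : Submodule K V := LinearMap.ker (ρ (z : P) - 1)
  have hUmem : ∀ y, y ∈ U ↔ ρ (z : P) y = y := by
    intro y
    simp only [U, LinearMap.mem_ker, LinearMap.sub_apply, Module.End.one_apply, sub_eq_zero]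
  have hUne : U ≠ ⊥ := by
    intro hbot
    have hinj : Function.Injective ⇑(ρ (z : P) - 1 : Module.End K V) := LinearMap.ker_eq_bot.mp hbot
    have hpow : (ρ (z : P) - 1) ^ (p ^ k) = 0 := by
      haveI : CharP (Module.End K V) p :=
        charP_of_injective_algebraMap (algebraMap K (Module.End K V)).injective p
      rw [sub_pow_char_pow_of_commute p k (Commute.one_right _), one_pow, ← map_pow, hk, map_one,
        sub_self]
    have hinj' : Function.Injective ⇑((ρ (z : P) - 1 : Module.End K V) ^ (p ^ k)) := by
      rw [Module.End.coe_pow]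
      exact hinj.iterate _
    obtain ⟨y, hy⟩ := exists_ne (0 : V)
    apply hy
    apply hinj'
    rw [hpow]; simp
  have hUinv : ∀ g, ∀ y ∈ U, ρ g y ∈ U := by
    intro g y hy
    rw [hUmem] at hy ⊢
    rw [← Module.End.mul_apply, ← map_mul, hzc, map_mul, Module.End.mul_apply, hy]
  haveI : Nontrivial U := (Submodule.nontrivial_iff_ne_bot).mpr hUne
  haveI hn : (Subgroup.zpowers (z : P)).Normal := by
    constructor
    intro x hx g
    obtain ⟨i, rfl⟩ := Subgroup.mem_zpowers_iff.mp hx
    have : g * (z : P) ^ i * g⁻¹ = (z : P) ^ i := by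
      have h1 : Commute g ((z : P) ^ i) := (Commute.zpow_right (hzc g).symm i)
      rw [h1.eq, mul_assoc, mul_inv_cancel, mul_one]
    rw [this]
    exact Subgroup.zpow_mem_zpowers _ _
  let σ : P ⧸ Subgroup.zpowers (z : P) →* Module.End K U :=
    QuotientGroup.lift _ (resU ρ U hUinv) (by
      intro x hx
      obtain ⟨i, rfl⟩ := Subgroup.mem_zpowers_iff.mp hx
      have h1 : resU ρ U hUinv (z : P) = 1 := by
        ext y
        rw [resU_apply]
        exact (hUmem _).mp y.2
      have h2 : ∀ j : ℕ, resU ρ U hUinv ((z : P) ^ j) = 1 := by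
        intro j; rw [map_pow, h1, one_pow]
      have h3 : ∀ a : P, resU ρ U hUinv a = 1 → resU ρ U hUinv a⁻¹ = 1 := by
        intro a ha
        have := inv_left (resU ρ U hUinv) a
        rwa [ha, mul_one] at this
      cases i with
      | ofNat j => simpa using h2 j
      | negSucc j =>
        rw [zpow_negSucc]
        exact h3 _ (h2 _))
  have hcard : Nat.card (P ⧸ Subgroup.zpowers (z : P)) < c := by
    have h1 := Subgroup.card_eq_card_quotient_mul_card_subgroup (Subgroup.zpowers (z : P))
    have h2 : 1 < Nat.card (Subgroup.zpowers (z : P)) := by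
      rw [Subgroup.one_lt_card_iff_ne_bot]
      intro h
      apply hz
      apply Subtype.ext
      have : (z : P) ∈ Subgroup.zpowers (z : P) := Subgroup.mem_zpowers _
      rw [h, Subgroup.mem_bot] at this
      exact this
    have h3 : 0 < Nat.card (P ⧸ Subgroup.zpowers (z : P)) := Nat.card_pos
    rw [← hc, h1]
    nlinarith
  obtain ⟨y, hy, hfix⟩ := ih _ hcard (P ⧸ Subgroup.zpowers (z : P)) rfl
    (hP.to_quotient _) U σ
  refine ⟨y, fun h => hy (Subtype.ext h), fun g => ?_⟩
  have := congrArg Subtype.val (hfix (g : P ⧸ Subgroup.zpowers (z : P)))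
  exact this


theorem exists_flag (p : ℕ) [hp : Fact p.Prime] [CharP K p] [Finite G] (hG : IsPGroup p G)
    [FiniteDimensional K V] (ρ : G →* Module.End K V) (d : ℕ) (hd : d ≤ finrank K V) :
    ∃ U : Submodule K V, (∀ g, ∀ y ∈ U, ρ g y ∈ U) ∧ finrank K U = d := by
  induction d with
  | zero => exact ⟨⊥, fun g y hy => by rw [Submodule.mem_bot] at hy ⊢; rw [hy, map_zero], by simp⟩
  | succ d ih =>
    obtain ⟨U, hU, hUd⟩ := ih (by omega)
    have hq : finrank K (V ⧸ U) + finrank K U = finrank K V := Submodule.finrank_quotient_add_finrank U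
    haveI : Nontrivial (V ⧸ U) := by
      apply Module.nontrivial_of_finrank_pos (R := K)
      omega
    obtain ⟨y, hy, hfix⟩ := exists_fixed p _ G rfl hG (V ⧸ U) (quoU ρ U hU)
    obtain ⟨x, rfl⟩ := U.mkQ_surjective y
    have hxU : x ∉ U := by
      intro h
      apply hy
      exact (Submodule.Quotient.mk_eq_zero U).mpr h
    have hfix' : ∀ g, ρ g x - x ∈ U := by
      intro g
      have := hfix g
      rw [quoU_mk] at this
      exact (Submodule.Quotient.eq U).mp this
    refine ⟨U ⊔ K ∙ x, ?_, ?_⟩
    · intro g y hy
      obtain ⟨a, ha, b, hb, rfl⟩ := Submodule.mem_sup.mp hy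
      obtain ⟨c, rfl⟩ := Submodule.mem_span_singleton.mp hb
      rw [map_add, map_smul]
      have : ρ g a + c • ρ g x = (ρ g a + c • (ρ g x - x)) + c • x := by
        rw [smul_sub]; abel
      rw [this]
      exact Submodule.add_mem_sup (U.add_mem (hU g a ha) (U.smul_mem c (hfix' g)))
        (Submodule.smul_mem _ c (Submodule.mem_span_singleton_self x))
    · have h1 := Submodule.finrank_sup_add_finrank_inf_eq U (K ∙ x)
      have h2 : U ⊓ K ∙ x = ⊥ := by
        rw [eq_bot_iff]
        rintro y ⟨hy1, hy2⟩
        obtain ⟨c, rfl⟩ := Submodule.mem_span_singleton.mp hy2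
        by_cases hc : c = 0
        · rw [hc, zero_smul]; exact Submodule.zero_mem _
        · exfalso
          apply hxU
          have := U.smul_mem c⁻¹ hy1
          rwa [smul_smul, inv_mul_cancel₀ hc, one_smul] at this
      have h3 : finrank K (K ∙ x) = 1 := by
        apply finrank_span_singleton
        intro h
        apply hxU
        rw [h]; exact U.zero_mem
      rw [h2, finrank_bot, h3, hUd] at h1
      omega

/-- elements acting trivially on `U` and on `V/U` commute. -/
theorem comm_of_trivial (ρ : G →* Module.End K V) (U : Submodule K V) (x y : G)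
    (hx1 : ∀ a ∈ U, ρ x a = a) (hx2 : ∀ a, ρ x a - a ∈ U)
    (hy1 : ∀ a ∈ U, ρ y a = a) (hy2 : ∀ a, ρ y a - a ∈ U) : ρ x * ρ y = ρ y * ρ x := by
  ext a
  simp only [Module.End.mul_apply]
  have e1 : ρ x (ρ y a) = ρ x a + (ρ y a - a) := by
    have := hx1 _ (hy2 a)
    rw [map_sub] at this
    rw [← this]; abel
  have e2 : ρ y (ρ x a) = ρ y a + (ρ x a - a) := by
    have := hy1 _ (hx2 a)
    rw [map_sub] at this
    rw [← this]; abel
  rw [e1, e2]; abel

theorem claimB (p : ℕ) [hp : Fact p.Prime] [CharP K p] (n : ℕ) :
    ∀ (P : Type u) [Group P] [Finite P], IsPGroup p P →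
      ∀ (V : Type v) [AddCommGroup V] [Module K V] [FiniteDimensional K V], finrank K V = n →
        ∀ (ρ : P →* Module.End K V), ∀ x ∈ derivedSeries P (Nat.clog 2 n), ρ x = 1 := by
  induction n using Nat.strong_induction_on with
  | _ n ih =>
  intro P _ _ hP V _ _ _ hn ρ x hx
  rcases Nat.lt_or_ge n 2 with h2 | h2
  · interval_cases n
    · haveI : Subsingleton V := Module.finrank_zero_iff.mp hn
      ext y
      exact Subsingleton.elim _ _
    · haveI : Nontrivial V := Module.nontrivial_of_finrank_pos (R := K) (by omega)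
      obtain ⟨y, hy, hfix⟩ := exists_fixed p _ P rfl hP V ρ
      ext a
      obtain ⟨c, rfl⟩ := (finrank_eq_one_iff_of_nonzero' y hy).mp hn a
      rw [map_smul, hfix, Module.End.one_apply]
  · set d := (n + 1) / 2 with hd
    obtain ⟨U, hU, hUd⟩ := exists_flag p hP ρ d (by omega)
    have hq : finrank K (V ⧸ U) + finrank K U = finrank K V := Submodule.finrank_quotient_add_finrank U
    have hclog : Nat.clog 2 n = Nat.clog 2 d + 1 := by
      rw [Nat.clog_of_two_le (by norm_num) h2]
      have : (n + 2 - 1) / 2 = d := by omega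
      rw [this]
    have key : ∀ z ∈ derivedSeries P (Nat.clog 2 d), (∀ a ∈ U, ρ z a = a) ∧ ∀ a, ρ z a - a ∈ U := by
      intro z hz
      constructor
      · intro a ha
        have := ih d (by omega) P hP U hUd (resU ρ U hU) z hz
        have h3 := congrArg Subtype.val (LinearMap.congr_fun this ⟨a, ha⟩)
        exact h3
      · intro a
        have hz' : z ∈ derivedSeries P (Nat.clog 2 (finrank K (V ⧸ U))) :=
          derivedSeries_antitone P (Nat.clog_mono_right 2 (by omega)) hz
        have := ih _ (by omega) P hP (V ⧸ U) rfl (quoU ρ U hU) z hz'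
        have h3 := LinearMap.congr_fun this (U.mkQ a)
        rw [quoU_mk, Module.End.one_apply] at h3
        exact (Submodule.Quotient.eq U).mp h3
    rw [hclog, derivedSeries_succ] at hx
    have hle : ⁅derivedSeries P (Nat.clog 2 d), derivedSeries P (Nat.clog 2 d)⁆ ≤ ρ.ker := by
      rw [Subgroup.commutator_le]
      intro a ha b hb
      rw [MonoidHom.mem_ker, commutatorElement_def, map_mul, map_mul, map_mul]
      obtain ⟨a1, a2⟩ := key a ha
      obtain ⟨b1, b2⟩ := key b hb
      rw [comm_of_trivial ρ U a b a1 a2 b1 b2, mul_assoc (ρ b), inv_right, mul_one, inv_right]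
    exact hle hx


theorem one_add_pow_of_sq_zero (N : Module.End K V) (hN : N * N = 0) (m : ℕ) :
    (1 + N) ^ m = 1 + (m : K) • N := by
  induction m with
  | zero => simp
  | succ m ih =>
    rw [pow_succ, ih, add_mul, mul_add, mul_add, one_mul, one_mul, mul_one, smul_mul_assoc, hN,
      smul_zero, add_zero]
    push_cast
    rw [add_smul, one_smul]
    abel

theorem claimA [IsAlgClosed K] (p : ℕ) [hp : Fact p.Prime] (hpK : (p : K) ≠ 0) (n : ℕ) :
    ∀ (P : Type u) [Group P] [Finite P], IsPGroup p P →
      ∀ (V : Type v) [AddCommGroup V] [Module K V] [FiniteDimensional K V], finrank K V = n →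
        ∀ (ρ : P →* Module.End K V), ∀ x ∈ derivedSeries P (Nat.log 2 n + 1), ρ x = 1 := by
  induction n using Nat.strong_induction_on with
  | _ n ih =>
  intro P _ _ hP V _ _ _ hn ρ x hx
  by_cases hn0 : n = 0
  · haveI : Subsingleton V := Module.finrank_zero_iff.mp (hn.trans hn0)
    ext y
    exact Subsingleton.elim _ _
  haveI : Nontrivial V := Module.nontrivial_of_finrank_pos (R := K) (by omega)
  by_cases hred : ∃ U : Submodule K V, (∀ g, ∀ y ∈ U, ρ g y ∈ U) ∧ U ≠ ⊥ ∧ U ≠ ⊤
  · obtain ⟨U, hU, hbot, htop⟩ := hred
    have hq : finrank K (V ⧸ U) + finrank K U = finrank K V := Submodule.finrank_quotient_add_finrank U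
    have h1 : 0 < finrank K U := by
      haveI : Nontrivial U := (Submodule.nontrivial_iff_ne_bot).mpr hbot
      exact Module.finrank_pos
    have h2 : finrank K U < finrank K V := Submodule.finrank_lt htop
    have t1 : ∀ a ∈ U, ρ x a = a := by
      intro a ha
      have hx' : x ∈ derivedSeries P (Nat.log 2 (finrank K U) + 1) :=
        derivedSeries_antitone P (Nat.add_le_add_right (Nat.log_mono_right (by omega)) 1) hx
      have := ih _ (by omega) P hP U rfl (resU ρ U hU) x hx'
      exact congrArg Subtype.val (LinearMap.congr_fun this ⟨a, ha⟩)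
    have t2 : ∀ a, ρ x a - a ∈ U := by
      intro a
      have hx' : x ∈ derivedSeries P (Nat.log 2 (finrank K (V ⧸ U)) + 1) :=
        derivedSeries_antitone P (Nat.add_le_add_right (Nat.log_mono_right (by omega)) 1) hx
      have := ih _ (by omega) P hP (V ⧸ U) rfl (quoU ρ U hU) x hx'
      have h3 := LinearMap.congr_fun this (U.mkQ a)
      rw [quoU_mk, Module.End.one_apply] at h3
      exact (Submodule.Quotient.eq U).mp h3
    set N : Module.End K V := ρ x - 1 with hN
    have hNN : N * N = 0 := by
      ext a
      simp only [Module.End.mul_apply, hN, LinearMap.sub_apply, Module.End.one_apply,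
        LinearMap.zero_apply]
      rw [t1 _ (t2 a), sub_self]
    obtain ⟨k, hk⟩ := hP x
    have h3 : (1 + N) ^ (p ^ k) = 1 := by
      rw [hN, add_sub_cancel, ← map_pow, hk, map_one]
    rw [one_add_pow_of_sq_zero N hNN] at h3
    have h4 : ((p ^ k : ℕ) : K) • N = 0 := by
      simpa using h3
    have h5 : ((p ^ k : ℕ) : K) ≠ 0 := by
      push_cast
      exact pow_ne_zero _ hpK
    have h6 : N = 0 := (smul_eq_zero.mp h4).resolve_left h5
    rw [hN, sub_eq_zero] at h6
    exact h6
  · push Not at hred
    have hirr : ∀ U : Submodule K V, (∀ g, ∀ y ∈ U, ρ g y ∈ U) → U ≠ ⊥ → U = ⊤ := hred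
    have schur : ∀ z, (∀ g, ρ z * ρ g = ρ g * ρ z) → ∃ c : K, ρ z = c • (1 : Module.End K V) := by
      intro z hz
      obtain ⟨c, hc⟩ := Module.End.exists_eigenvalue (ρ z)
      refine ⟨c, ?_⟩
      have htop := hirr (Module.End.eigenspace (ρ z) c) (by
        intro g y hy
        rw [Module.End.mem_eigenspace_iff] at hy ⊢
        rw [← Module.End.mul_apply, hz g, Module.End.mul_apply, hy, map_smul]) hc
      ext y
      have : y ∈ Module.End.eigenspace (ρ z) c := by rw [htop]; trivial
      rw [Module.End.mem_eigenspace_iff] at this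
      rw [this]; simp
    by_cases hab : ∀ g h, ρ g * ρ h = ρ h * ρ g
    · have hle : derivedSeries P 1 ≤ ρ.ker := by
        rw [derivedSeries_succ, Subgroup.commutator_le]
        intro a _ b _
        rw [MonoidHom.mem_ker, commutatorElement_def, map_mul, map_mul, map_mul, hab a b,
          mul_assoc (ρ b), inv_right, mul_one, inv_right]
      exact hle (derivedSeries_antitone P (by omega) hx)
    · push Not at hab
      let C : Subgroup P :=
        { carrier := {z | ∀ g, ρ z * ρ g = ρ g * ρ z}
          one_mem' := by intro g; simp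
          mul_mem' := by
            intro a b ha hb g
            simp only [Set.mem_ofPred_eq] at ha hb
            rw [map_mul, mul_assoc, hb g, ← mul_assoc, ha g, mul_assoc]
          inv_mem' := by
            intro a ha g
            simp only [Set.mem_ofPred_eq] at ha
            calc ρ a⁻¹ * ρ g = ρ a⁻¹ * (ρ g * ρ a) * ρ a⁻¹ := by
                  rw [mul_assoc, mul_assoc, inv_right, mul_one]
              _ = ρ a⁻¹ * (ρ a * ρ g) * ρ a⁻¹ := by rw [ha g]
              _ = ρ g * ρ a⁻¹ := by rw [← mul_assoc, inv_left, one_mul] }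
      have hCmem : ∀ z, z ∈ C ↔ ∀ g, ρ z * ρ g = ρ g * ρ z := fun z => Iff.rfl
      haveI hCn : C.Normal := by
        constructor
        intro z hz g
        rw [hCmem] at hz ⊢
        have : ρ (g * z * g⁻¹) = ρ z := by
          rw [map_mul, map_mul, ← hz g, mul_assoc, inv_right, mul_one]
        intro h
        rw [this, hz h]
      have hCtop : C ≠ ⊤ := by
        intro h
        obtain ⟨g, h', hgh⟩ := hab
        apply hgh
        have : g ∈ C := by rw [h]; trivial
        exact this h'
      haveI : Nontrivial (P ⧸ C) := by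
        rw [QuotientGroup.nontrivial_iff]
        exact hCtop
      haveI := (hP.to_quotient C).center_nontrivial
      obtain ⟨⟨y, hyc⟩, hy1⟩ := exists_ne (1 : Subgroup.center (P ⧸ C))
      obtain ⟨x₀, rfl⟩ := QuotientGroup.mk_surjective y
      have hx₀ : x₀ ∉ C := by
        intro h
        apply hy1
        apply Subtype.ext
        exact (QuotientGroup.eq_one_iff x₀).mpr h
      have hcomm : ∀ g, x₀ * g * x₀⁻¹ * g⁻¹ ∈ C := by
        intro g
        rw [← QuotientGroup.eq_one_iff]
        have h1 := Subgroup.mem_center_iff.mp hyc (g : P ⧸ C)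
        rw [QuotientGroup.mk_mul, QuotientGroup.mk_mul, QuotientGroup.mk_mul, QuotientGroup.mk_inv,
          QuotientGroup.mk_inv, ← h1]
        group
      set X : Module.End K V := ρ x₀ with hX
      have hXc : ∀ g, ∃ c : K, X * ρ g = c • (ρ g * X) := by
        intro g
        obtain ⟨c, hc⟩ := schur _ ((hCmem _).mp (hcomm g))
        refine ⟨c, ?_⟩
        have : X * ρ g = ρ (x₀ * g * x₀⁻¹ * g⁻¹) * (ρ g * X) := by
          rw [hX, ← map_mul, ← map_mul, ← map_mul]
          congr 1
          group
        rw [this, hc, smul_mul_assoc, one_mul]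
      choose c hc using hXc
      have hXl : ρ x₀⁻¹ * X = 1 := inv_left ρ x₀
      have hc0 : ∀ g, c g ≠ 0 := by
        intro g h0
        have h1 := hc g
        rw [h0, zero_smul] at h1
        have h2 : (1 : Module.End K V) = ρ x₀⁻¹ * (X * ρ g) * ρ g⁻¹ := by
          rw [← mul_assoc, hXl, one_mul, inv_right]
        rw [h1, mul_zero, zero_mul] at h2
        exact one_ne_zero h2
      have hcinv : ∀ g, X * ρ g⁻¹ = (c g)⁻¹ • (ρ g⁻¹ * X) := by
        intro g
        have h1 : ρ g⁻¹ * X = c g • (X * ρ g⁻¹) := by
          calc ρ g⁻¹ * X = ρ g⁻¹ * (X * ρ g) * ρ g⁻¹ := by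
                rw [mul_assoc, mul_assoc, inv_right, mul_one]
            _ = c g • (X * ρ g⁻¹) := by
                rw [hc g, mul_smul_comm, smul_mul_assoc, ← mul_assoc, inv_left, one_mul]
        rw [h1, smul_smul, inv_mul_cancel₀ (hc0 g), one_smul]
      let M : Subgroup P :=
        { carrier := {g | X * ρ g = ρ g * X}
          one_mem' := by simp
          mul_mem' := by
            intro a b ha hb
            simp only [Set.mem_ofPred_eq] at ha hb ⊢
            rw [map_mul, ← mul_assoc, ha, mul_assoc, hb, mul_assoc]
          inv_mem' := by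
            intro a ha
            simp only [Set.mem_ofPred_eq] at ha ⊢
            calc X * ρ a⁻¹ = ρ a⁻¹ * (ρ a * X) * ρ a⁻¹ := by
                  rw [← mul_assoc, inv_left, one_mul]
              _ = ρ a⁻¹ * (X * ρ a) * ρ a⁻¹ := by rw [ha]
              _ = ρ a⁻¹ * X := by rw [mul_assoc, mul_assoc, inv_right, mul_one] }
      have hMmem : ∀ g, g ∈ M ↔ X * ρ g = ρ g * X := fun g => Iff.rfl
      have hMcomm : commutator P ≤ M := by
        rw [commutator_def, Subgroup.commutator_le]
        intro a _ b _
        rw [hMmem, commutatorElement_def, map_mul, map_mul, map_mul]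
        calc X * (ρ a * ρ b * ρ a⁻¹ * ρ b⁻¹) = (X * ρ a) * ρ b * ρ a⁻¹ * ρ b⁻¹ := by
              simp only [mul_assoc]
          _ = c a • (ρ a * (X * ρ b) * ρ a⁻¹ * ρ b⁻¹) := by
              rw [hc a]; simp only [smul_mul_assoc, mul_assoc]
          _ = (c a * c b) • (ρ a * ρ b * (X * ρ a⁻¹) * ρ b⁻¹) := by
              rw [hc b]; simp only [smul_mul_assoc, mul_smul_comm, mul_assoc, smul_smul]
          _ = (c a * c b * (c a)⁻¹) • (ρ a * ρ b * ρ a⁻¹ * (X * ρ b⁻¹)) := by
              rw [hcinv a]; simp only [smul_mul_assoc, mul_smul_comm, mul_assoc, smul_smul]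
          _ = (c a * c b * (c a)⁻¹ * (c b)⁻¹) • (ρ a * ρ b * ρ a⁻¹ * ρ b⁻¹ * X) := by
              rw [hcinv b]; simp only [mul_smul_comm, mul_assoc, smul_smul]
          _ = ρ a * ρ b * ρ a⁻¹ * ρ b⁻¹ * X := by
              have : c a * c b * (c a)⁻¹ * (c b)⁻¹ = 1 := by
                field_simp [hc0 a, hc0 b]
              rw [this, one_smul]
      obtain ⟨g₀, hg₀⟩ : ∃ g₀, X * ρ g₀ ≠ ρ g₀ * X := by
        by_contra hcon
        push Not at hcon
        exact hx₀ hcon
      have hc₀ : c g₀ ≠ 1 := by
        intro h
        apply hg₀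
        rw [hc g₀, h, one_smul]
      let E : K → Submodule K V := fun β => Module.End.eigenspace X β
      have hEmem : ∀ β y, y ∈ E β ↔ X y = β • y := fun β y => Module.End.mem_eigenspace_iff
      have hEmap : ∀ g β, ∀ y ∈ E β, ρ g y ∈ E (c g * β) := by
        intro g β y hy
        rw [hEmem] at hy ⊢
        rw [← Module.End.mul_apply, hc g, LinearMap.smul_apply, Module.End.mul_apply, hy, map_smul,
          smul_smul]
      have hEtop : ⨆ β, E β = ⊤ := by
        apply hirr
        · intro g y hy
          have hle : (⨆ β, E β).map (ρ g) ≤ ⨆ β, E β := by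
            rw [Submodule.map_iSup]
            apply iSup_le
            intro β
            rintro _ ⟨y, hy, rfl⟩
            exact Submodule.mem_iSup_of_mem (c g * β) (hEmap g β y hy)
          exact hle ⟨y, hy, rfl⟩
        · obtain ⟨β, hβ⟩ := Module.End.exists_eigenvalue X
          intro h
          apply hβ
          rw [eq_bot_iff, ← h]
          exact le_iSup E β
      have hEdim : ∀ β, 2 * finrank K (E β) ≤ n := by
        intro β
        by_cases hβ : β = 0
        · have : E β = ⊥ := by
            rw [eq_bot_iff]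
            intro y hy
            rw [hEmem, hβ, zero_smul] at hy
            rw [Submodule.mem_bot]
            have := congrArg (ρ x₀⁻¹) hy
            rwa [← Module.End.mul_apply, hXl, map_zero, Module.End.one_apply] at this
          rw [this, finrank_bot]; omega
        · have hdis : Disjoint (E β) (E (c g₀ * β)) := by
            rw [Submodule.disjoint_def]
            intro y h1 h2
            rw [hEmem] at h1 h2
            rw [h1] at h2
            have h3 : (β - c g₀ * β) • y = 0 := by rw [sub_smul, h2, sub_self]
            rcases smul_eq_zero.mp h3 with h4 | h4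
            · exfalso
              apply hc₀
              have : (1 - c g₀) * β = 0 := by rw [sub_mul, one_mul, h4]
              rcases mul_eq_zero.mp this with h5 | h5
              · exact (sub_eq_zero.mp h5).symm
              · exact absurd h5 hβ
            · exact h4
          have h1 := Submodule.finrank_add_finrank_le_of_disjoint hdis
          have h2 : finrank K (E β) ≤ finrank K (E (c g₀ * β)) := by
            apply LinearMap.finrank_le_finrank_of_injective
              (f := (ρ g₀).restrict (hEmap g₀ β))
            intro a b hab'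
            apply Subtype.ext
            have h3 : ρ g₀ (a : V) = ρ g₀ (b : V) := congrArg Subtype.val hab'
            have h4 := congrArg (ρ g₀⁻¹) h3
            rwa [← Module.End.mul_apply, ← Module.End.mul_apply, inv_left, Module.End.one_apply,
              Module.End.one_apply] at h4
          omega
      obtain ⟨m, hm, rfl⟩ := derived_shift M hMcomm _ hx
      have hfixE : ∀ β, ∀ y ∈ E β, ρ (m : P) y = y := by
        intro β y hy
        by_cases h0 : finrank K (E β) = 0
        · have : E β = ⊥ := Submodule.finrank_eq_zero.mp h0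
          rw [this, Submodule.mem_bot] at hy
          rw [hy, map_zero]
        · have hinv : ∀ g : M, ∀ y ∈ E β, (ρ.comp M.subtype) g y ∈ E β := by
            intro g y hy
            rw [hEmem] at hy ⊢
            simp only [MonoidHom.comp_apply, Subgroup.coe_subtype]
            rw [← Module.End.mul_apply, (hMmem _).mp g.2, Module.End.mul_apply, hy, map_smul]
          have hlog : Nat.log 2 (finrank K (E β)) + 1 ≤ Nat.log 2 n := by
            rw [← Nat.log_mul_base (by norm_num) h0]
            apply Nat.log_mono_right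
            have := hEdim β
            omega
          have hm' : m ∈ derivedSeries M (Nat.log 2 (finrank K (E β)) + 1) :=
            derivedSeries_antitone M hlog hm
          have := ih _ (by have := hEdim β; omega) M (hP.to_subgroup M) (E β) rfl
            (resU (ρ.comp M.subtype) (E β) hinv) m hm'
          exact congrArg Subtype.val (LinearMap.congr_fun this ⟨y, hy⟩)
      have hker : (⊤ : Submodule K V) ≤ LinearMap.ker (ρ (m : P) - 1) := by
        rw [← hEtop]
        apply iSup_le
        intro β y hy
        rw [LinearMap.mem_ker, LinearMap.sub_apply, Module.End.one_apply, hfixE β y hy, sub_self]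
      ext y
      have : y ∈ LinearMap.ker (ρ (m : P) - 1) := hker trivial
      rw [LinearMap.mem_ker, LinearMap.sub_apply, Module.End.one_apply, sub_eq_zero] at this
      simpa using this


theorem main {P : Type u} [Group P] [Finite P] (p : ℕ) [Fact p.Prime] (hP : IsPGroup p P)
    (F : Type w) [Field F] (n : ℕ) (ρ : P →* Matrix.GeneralLinearGroup (Fin n) F)
    (hρ : Function.Injective ρ) : derivedSeries P (Nat.log 2 n + 1) = ⊥ := by
  classical
  rw [eq_bot_iff]
  intro x hx
  rw [Subgroup.mem_bot]
  by_cases hpF : (p : F) = 0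
  · haveI : CharP F p := (CharP.charP_iff_prime_eq_zero (Fact.out : p.Prime)).mpr hpF
    let r : P →* Module.End F (Fin n → F) :=
      ((Matrix.toLinAlgEquiv' : Matrix (Fin n) (Fin n) F ≃ₐ[F] _) : _ →* _).comp
        ((Units.coeHom _).comp ρ)
    have hr : Function.Injective r := by
      intro a b hab
      apply hρ
      apply Units.ext
      exact (Matrix.toLinAlgEquiv' : Matrix (Fin n) (Fin n) F ≃ₐ[F] _).injective hab
    apply hr
    rw [map_one]
    apply claimB p n P hP (Fin n → F) (Module.finrank_fin_fun F) r x
    refine derivedSeries_antitone P ?_ hx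
    apply Nat.clog_le_of_le_pow
    exact (Nat.lt_pow_succ_log_self (by norm_num) n).le
  · let K := AlgebraicClosure F
    have hpK : (p : K) ≠ 0 := by
      intro h
      apply hpF
      apply (algebraMap F K).injective
      rw [map_natCast, h, map_zero]
    let r : P →* Module.End K (Fin n → K) :=
      ((Matrix.toLinAlgEquiv' : Matrix (Fin n) (Fin n) K ≃ₐ[K] _) : _ →* _).comp
        (((algebraMap F K).mapMatrix : Matrix (Fin n) (Fin n) F →+* Matrix (Fin n) (Fin n) K).toMonoidHom.comp
          ((Units.coeHom _).comp ρ))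
    have hr : Function.Injective r := by
      intro a b hab
      apply hρ
      apply Units.ext
      have h1 := (Matrix.toLinAlgEquiv' : Matrix (Fin n) (Fin n) K ≃ₐ[K] _).injective hab
      exact Matrix.map_injective (algebraMap F K).injective h1
    apply hr
    rw [map_one]
    exact claimA p hpK n P hP (Fin n → K) (Module.finrank_fin_fun K) r x hx

end Cfsg.Agent.Lib.Helper79.LPG
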