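import Mathlib

set_option autoImplicit false

namespace Cfsg.Agent.Lib.Helper79

/-- **Glauberman's lemma for an abelian group acting transitively** (averaging form).
`S` acts on the set `Ω` and by endomorphisms on the commutative group `A`, `A` acts on `Ω`
transitively and compatibly.  If the point `ω₀` is fixed by a subgroup `S₀` of `S` whose index is
prime to an exponent `e` of `A`, then `S` fixes a point of `Ω`. -/
theorem exists_fixed_point_of_torsor {S A Ω : Type*} [Group S] [Finite S] [CommGroup A]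
    (actA : S → A →* A) (actΩ : S → Ω → Ω) (mulΩ : A → Ω → Ω)
    (actΩ_mul : ∀ s u ω, actΩ (s * u) ω = actΩ s (actΩ u ω))
    (mulΩ_one : ∀ ω, mulΩ 1 ω = ω)
    (mulΩ_mul : ∀ a b ω, mulΩ (a * b) ω = mulΩ a (mulΩ b ω))
    (compat : ∀ s a ω, actΩ s (mulΩ a ω) = mulΩ (actA s a) (actΩ s ω))
    (trans : ∀ ω ω' : Ω, ∃ a : A, mulΩ a ω = ω')
    (ω₀ : Ω) (S₀ : Subgroup S) (hS₀ : ∀ s ∈ S₀, actΩ s ω₀ = ω₀)
    (e : ℕ) (he : ∀ a : A, a ^ e = 1) (hcop : Nat.Coprime S₀.index e) :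
    ∃ ω : Ω, ∀ s : S, actΩ s ω = ω := by
  classical
  have := Fintype.ofFinite (S ⧸ S₀)
  -- the stabilizer of `ω₀` in `A`
  let Λ : Subgroup A :=
    { carrier := {a | mulΩ a ω₀ = ω₀}
      one_mem' := mulΩ_one ω₀
      mul_mem' := by
        intro a b ha hb
        show mulΩ (a * b) ω₀ = ω₀
        rw [mulΩ_mul, show mulΩ b ω₀ = ω₀ from hb, show mulΩ a ω₀ = ω₀ from ha]
      inv_mem' := by
        intro a ha
        show mulΩ a⁻¹ ω₀ = ω₀
        have h1 : mulΩ a⁻¹ (mulΩ a ω₀) = ω₀ := by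
          rw [← mulΩ_mul, inv_mul_cancel, mulΩ_one]
        rwa [show mulΩ a ω₀ = ω₀ from ha] at h1 }
  have hΛ : ∀ a b : A, mulΩ a ω₀ = mulΩ b ω₀ → a * b⁻¹ ∈ Λ := by
    intro a b hab
    show mulΩ (a * b⁻¹) ω₀ = ω₀
    rw [mul_comm, mulΩ_mul, hab, ← mulΩ_mul, inv_mul_cancel, mulΩ_one]
  have hΛ' : ∀ a b : A, a * b⁻¹ ∈ Λ → mulΩ a ω₀ = mulΩ b ω₀ := by
    intro a b hab
    have h1 : mulΩ (a * b⁻¹) ω₀ = ω₀ := hab
    have h2 : mulΩ b (mulΩ (a * b⁻¹) ω₀) = mulΩ a ω₀ := by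
      rw [← mulΩ_mul]
      congr 1
      rw [mul_comm a, mul_inv_cancel_left]
    rw [← h2, h1]
  choose c hc using fun s : S => trans ω₀ (actΩ s ω₀)
  -- `hc s : mulΩ (c s) ω₀ = actΩ s ω₀`
  set n := S₀.index with hn
  let b : A := ∏ q : S ⧸ S₀, c q.out
  have key : ∀ u : S, actA u b * c u ^ n * b⁻¹ ∈ Λ := by
    intro u
    have h1 : ∀ q : S ⧸ S₀, actA u (c q.out) * c u * (c (u • q).out)⁻¹ ∈ Λ := by
      intro q
      apply hΛ
      rw [mulΩ_mul, hc u, ← compat, hc q.out, ← actΩ_mul, hc]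
      -- `u * q.out` and `(u • q).out` differ by an element of `S₀`
      have h2 : ((u * q.out : S) : S ⧸ S₀) = u • q := by
        conv_rhs => rw [← QuotientGroup.out_eq' q]
        rfl
      obtain ⟨h, hh⟩ := QuotientGroup.mk_out_eq_mul S₀ (u * q.out)
      rw [h2] at hh
      rw [hh, actΩ_mul (u * q.out) h, hS₀ h h.2]
    have h3 := Subgroup.prod_mem Λ (fun q (_ : q ∈ (Finset.univ : Finset (S ⧸ S₀))) => h1 q)
    rw [Finset.prod_mul_distrib, Finset.prod_mul_distrib, Finset.prod_const, Finset.card_univ,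
      ← map_prod, Finset.prod_inv_distrib] at h3
    have h4 : ∏ q : S ⧸ S₀, c (u • q).out = b :=
      Equiv.prod_comp (MulAction.toPerm u) (fun q : S ⧸ S₀ => c q.out)
    rw [h4] at h3
    have h5 : Fintype.card (S ⧸ S₀) = n := by
      rw [hn, Subgroup.index, Nat.card_eq_fintype_card]
    rw [h5] at h3
    exact h3
  -- choose `j` with `n * j ≡ 1 mod e`
  obtain ⟨j, hj⟩ : ∃ j : ℕ, ∀ a : A, a ^ (n * j) = a := by
    rcases Nat.eq_zero_or_pos e with h0 | hpos
    · -- `e = 0` forces `n = 1`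
      rw [h0, Nat.coprime_zero_right] at hcop
      exact ⟨1, fun a => by rw [hcop]; simp⟩
    · rcases Nat.lt_or_ge 1 e with h1 | h1
      · obtain ⟨j, -, hj⟩ := Nat.exists_mul_mod_eq_one_of_coprime hcop h1
        refine ⟨j, fun a => ?_⟩
        have h2 := Nat.div_add_mod (n * j) e
        rw [hj] at h2
        rw [← h2, pow_add, pow_mul, he, one_pow, one_mul, pow_one]
      · have he1 : e = 1 := le_antisymm h1 hpos
        refine ⟨0, fun a => ?_⟩
        have := he a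
        rw [he1, pow_one] at this
        rw [this]; simp
  refine ⟨mulΩ (b ^ j) ω₀, fun u => ?_⟩
  rw [compat, ← hc u, ← mulΩ_mul]
  apply hΛ'
  have h6 := Λ.pow_mem (key u) j
  rw [mul_pow, mul_pow, ← pow_mul, hj, ← map_pow, inv_pow] at h6
  exact h6

end Cfsg.Agent.Lib.Helper79
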